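import Groth.Agent.ValEtDescLib.ValSystem
import Groth.Agent.RGFlatLib.Domain
import Groth.Agent.FpqcDesc.Topo

/-! Surjective flat refinements of universally open morphisms. -/

set_option autoImplicit false
set_option linter.style.haveILetI false
set_option backward.isDefEq.respectTransparency false
set_option backward.isDefEq.respectTransparency.types false

universe u
open CategoryTheory CategoryTheory.Limits AlgebraicGeometry

noncomputable section

namespace Groth.Agent.NilFlatLib

variable {X S P P' : Scheme.{u}}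

/-- After base change along `f`, the morphism `g` becomes flat of finite presentation on a surjective cover. -/
def SurjRefinable (g : X ⟶ S) (f : P ⟶ S) : Prop :=
  ∃ (T : Scheme.{u}) (t : T ⟶ P) (m : T ⟶ pullback g f), m ≫ pullback.snd g f = t ∧ Flat t ∧
    LocallyOfFinitePresentation t ∧ QuasiCompact t ∧ QuasiSeparated t ∧ Surjective m

/-- The comparison of base changes. -/
abbrev bcMap (g : X ⟶ S) {f : P ⟶ S} {f' : P' ⟶ S} (h : P' ⟶ P) (e : h ≫ f = f') :
    pullback g f' ⟶ pullback g f :=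
  pullback.lift (pullback.fst g f') (pullback.snd g f' ≫ h) (by rw [Category.assoc, e, pullback.condition])

theorem isPullback_bcMap (g : X ⟶ S) {f : P ⟶ S} {f' : P' ⟶ S} (h : P' ⟶ P) (e : h ≫ f = f') :
    IsPullback (bcMap g h e) (pullback.snd g f') (pullback.snd g f) h :=
  IsPullback.of_right (by rw [pullback.lift_fst, e]; exact IsPullback.of_hasPullback g f')
    (pullback.lift_snd _ _ _) (IsPullback.of_hasPullback g f)

theorem SurjRefinable.of_comp {g : X ⟶ S} {f : P ⟶ S} {f' : P' ⟶ S} (H : SurjRefinable g f) (h : P' ⟶ P)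
    (e : h ≫ f = f') : SurjRefinable g f' := by
  obtain ⟨T, t, m, rfl, h1, h2, h3, h4, h5⟩ := H
  let hb := isPullback_bcMap g h e
  let m' : pullback (m ≫ pullback.snd g f) h ⟶ pullback g f' :=
    hb.lift (pullback.fst _ _ ≫ m) (pullback.snd _ _) (by rw [Category.assoc]; exact pullback.condition)
  have hm' : IsPullback (pullback.fst (m ≫ pullback.snd g f) h) m' m (bcMap g h e) :=
    IsPullback.of_bot (by rw [hb.lift_snd]; exact IsPullback.of_hasPullback _ _) (hb.lift_fst _ _ _).symm hb
  refine ⟨_, pullback.snd (m ≫ pullback.snd g f) h, m', hb.lift_snd _ _ _,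
    MorphismProperty.pullback_snd (P := @Flat) _ _ h1,
    MorphismProperty.pullback_snd (P := @LocallyOfFinitePresentation) _ _ h2,
    MorphismProperty.pullback_snd (P := @QuasiCompact) _ _ h3,
    MorphismProperty.pullback_snd (P := @QuasiSeparated) _ _ h4, ?_⟩
  exact MorphismProperty.of_isPullback (P := @Surjective) hm' h5

theorem SurjRefinable.of_isPullback {X₀ S₀ : Scheme.{u}} {q : X ⟶ X₀} {g : X ⟶ S} {g₀ : X₀ ⟶ S₀} {b : S ⟶ S₀}
    (hpb : IsPullback q g g₀ b) (f : P ⟶ S) :
    SurjRefinable g f ↔ SurjRefinable g₀ (f ≫ b) := by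
  have h : IsPullback (pullback.fst g f ≫ q) (pullback.snd g f) g₀ (f ≫ b) :=
    (IsPullback.of_hasPullback g f).paste_horiz hpb
  constructor
  · rintro ⟨T, t, m, hm, h1, h2, h3, h4, h5⟩
    exact ⟨T, t, m ≫ h.isoPullback.hom, by rw [Category.assoc, h.isoPullback_hom_snd, hm], h1, h2, h3, h4, inferInstance⟩
  · rintro ⟨T, t, m, hm, h1, h2, h3, h4, h5⟩
    exact ⟨T, t, m ≫ h.isoPullback.inv, by rw [Category.assoc, h.isoPullback_inv_snd, hm], h1, h2, h3, h4, inferInstance⟩

variable {V : CommRingCat.{u}} [IsDomain V] [ValuationRing V]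

/-- Over a valuation ring a universally open affine scheme of finite type has a flat finitely presented closed
subscheme with the same points. -/
theorem exists_flat_surjective_affine {B : CommRingCat.{u}} (φ : V ⟶ B) [LocallyOfFinitePresentation (Spec.map φ)]
    (hopen : IsOpenMap (Spec.map φ)) :
    ∃ (T : Scheme.{u}) (k : T ⟶ Spec B), IsAffine T ∧ Surjective k ∧ Flat (k ≫ Spec.map φ) ∧
      LocallyOfFinitePresentation (k ≫ Spec.map φ) := by
  have hfp : φ.hom.FinitePresentation := (HasRingHomProperty.Spec_iff (P := @LocallyOfFinitePresentation)).1 inferInstance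
  letI : Algebra V B := φ.hom.toAlgebra
  haveI : Algebra.FinitePresentation V B := hfp
  haveI : Algebra.FiniteType V B := inferInstance
  let I : Ideal B :=
    { carrier := {b | ∃ v : V, v ≠ 0 ∧ algebraMap V B v * b = 0}
      add_mem' := by
        rintro a b ⟨v, hv, hva⟩ ⟨w, hw, hwb⟩
        exact ⟨v * w, mul_ne_zero hv hw, by linear_combination (algebraMap V B w) * hva + (algebraMap V B v) * hwb + (map_mul (algebraMap V B) v w) * (a + b)⟩
      zero_mem' := ⟨1, one_ne_zero, mul_zero _⟩
      smul_mem' := by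
        rintro c b ⟨v, hv, hvb⟩
        exact ⟨v, hv, by rw [smul_eq_mul, mul_left_comm, hvb, mul_zero]⟩ }
  haveI : Module.IsTorsionFree V (B ⧸ I) := by
    refine Module.IsTorsionFree.of_smul_eq_zero fun v x h => ?_
    obtain ⟨b, rfl⟩ := Ideal.Quotient.mk_surjective x
    by_cases hv : v = 0
    · exact Or.inl hv
    refine Or.inr (Ideal.Quotient.eq_zero_iff_mem.2 ?_)
    have h' : algebraMap V B v * b ∈ I := by
      rw [Algebra.smul_def, IsScalarTower.algebraMap_apply V B (B ⧸ I), Ideal.Quotient.algebraMap_eq, ← map_mul] at h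
      exact Ideal.Quotient.eq_zero_iff_mem.1 h
    obtain ⟨w, hw, hwb⟩ := h'
    exact ⟨w * v, mul_ne_zero hw hv, by rw [map_mul, mul_assoc, hwb]⟩
  haveI : Module.Flat V (B ⧸ I) := by
    rw [Module.Flat.flat_iff_torsion_eq_bot_of_isBezout,
      ← Submodule.isTorsionFree_iff_torsion_eq_bot]
    infer_instance
  haveI : Module.FinitePresentation B (B ⧸ I) := RGFlatLib.finitePresentation_of_flat_isDomain (R := V)
  have hI : I.FG := by
    have := Module.FinitePresentation.fg_ker I.mkQ I.mkQ_surjective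
    rwa [Submodule.ker_mkQ] at this
  haveI : Algebra.FinitePresentation V (B ⧸ I) := Algebra.FinitePresentation.quotient hI
  let k : Spec (CommRingCat.of (B ⧸ I)) ⟶ Spec B := Spec.map (CommRingCat.ofHom (Ideal.Quotient.mk I))
  have hk : k ≫ Spec.map φ = Spec.map (CommRingCat.ofHom (algebraMap V (B ⧸ I))) := (Spec.map_comp _ _).symm
  refine ⟨_, k, inferInstance, ⟨fun p => ?_⟩, ?_, ?_⟩
  · obtain ⟨p', hp', he⟩ := SchTopo.generalizingMap_of_isOpenMap (Spec.map φ) hopen
      (show (⟨⊥, Ideal.isPrime_bot⟩ : PrimeSpectrum V) ⤳ Spec.map φ p from (PrimeSpectrum.le_iff_specializes _ _).1 bot_le)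
    have hle : I ≤ p.asIdeal := by
      rintro b ⟨v, hv, hvb⟩
      refine (PrimeSpectrum.le_iff_specializes p' p).2 hp' ?_
      have h0 : algebraMap V B v * b ∈ p'.asIdeal := hvb ▸ p'.asIdeal.zero_mem
      refine (p'.isPrime.mem_or_mem h0).resolve_left fun h => hv ?_
      have : v ∈ Ideal.comap φ.hom p'.asIdeal := h
      rw [show Ideal.comap φ.hom p'.asIdeal = ⊥ from congrArg PrimeSpectrum.asIdeal he] at this
      exact this
    have hr := range_comap_of_surjective (B ⧸ I) (Ideal.Quotient.mk I) Ideal.Quotient.mk_surjective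
    rw [Ideal.mk_ker] at hr
    exact hr.ge (show p ∈ PrimeSpectrum.zeroLocus (I : Set B) from hle)
  · rw [hk, HasRingHomProperty.Spec_iff (P := @Flat)]
    exact RingHom.flat_algebraMap_iff.2 inferInstance
  · rw [hk, HasRingHomProperty.Spec_iff (P := @LocallyOfFinitePresentation)]
    exact RingHom.finitePresentation_algebraMap.2 inferInstance

/-- Over a valuation ring a universally open morphism of finite presentation is covered by a flat one. -/
theorem exists_flat_surjective (g : X ⟶ Spec V) [LocallyOfFinitePresentation g] [QuasiCompact g] [UniversallyOpen g] :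
    ∃ (T : Scheme.{u}) (k : T ⟶ X), IsAffine T ∧ Surjective k ∧ Flat (k ≫ g) ∧
      LocallyOfFinitePresentation (k ≫ g) := by
  haveI : CompactSpace X := QuasiCompact.compactSpace_of_compactSpace g
  let 𝒰 := X.affineCover.finiteSubcover
  haveI : ∀ i, IsAffine (𝒰.X i) := fun i => inferInstanceAs (IsAffine (X.affineCover.X _))
  have H : ∀ i, ∃ (T : Scheme.{u}) (k : T ⟶ 𝒰.X i), IsAffine T ∧ Surjective k ∧ Flat (k ≫ 𝒰.f i ≫ g) ∧
      LocallyOfFinitePresentation (k ≫ 𝒰.f i ≫ g) := fun i => by
    obtain ⟨φ, hφ⟩ := Spec.map_surjective ((𝒰.X i).isoSpec.inv ≫ 𝒰.f i ≫ g)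
    haveI : LocallyOfFinitePresentation (Spec.map φ) := by rw [hφ]; infer_instance
    haveI : UniversallyOpen (Spec.map φ) := by rw [hφ]; infer_instance
    obtain ⟨T, k, h1, h2, h3, h4⟩ := exists_flat_surjective_affine φ (Spec.map φ).isOpenMap
    refine ⟨T, k ≫ (𝒰.X i).isoSpec.inv, h1, inferInstance, ?_, ?_⟩
    · rwa [Category.assoc, ← hφ]
    · rwa [Category.assoc, ← hφ]
  choose T k h1 h2 h3 h4 using H
  haveI := h1
  let K : ∐ T ⟶ X := Limits.Sigma.desc fun i => k i ≫ 𝒰.f i
  refine ⟨∐ T, K, inferInstance, ⟨fun x => ?_⟩, ?_, ?_⟩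
  · obtain ⟨i, y, rfl⟩ := 𝒰.exists_eq x
    haveI := h2 i
    obtain ⟨z, rfl⟩ := (k i).surjective y
    exact ⟨Limits.Sigma.ι T i z, by rw [← Scheme.Hom.comp_apply, Limits.Sigma.ι_desc]; rfl⟩
  all_goals
    have e : K ≫ g = Limits.Sigma.desc fun i => k i ≫ 𝒰.f i ≫ g := Limits.Sigma.hom_ext _ _ fun i => by simp [K]
    rw [e]
  · exact IsZariskiLocalAtSource.sigmaDesc h3
  · exact IsZariskiLocalAtSource.sigmaDesc h4

end Groth.Agent.NilFlatLib
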