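import Groth.Agent.NilFlatLib.HullChart

/-! The closure of the generic fibre over an integral base. -/

set_option autoImplicit false
set_option linter.style.haveILetI false
set_option backward.isDefEq.respectTransparency false
set_option backward.isDefEq.respectTransparency.types false

universe u
open CategoryTheory CategoryTheory.Limits AlgebraicGeometry
open scoped TensorProduct

noncomputable section

namespace Groth.Agent.NilFlatLib

theorem isPullback_comp_mono {W X Y Z Z' : Scheme.{u}} {a : W ⟶ X} {b : W ⟶ Y} {f : X ⟶ Z} {g : Y ⟶ Z}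
    (h : IsPullback a b f g) (i : Z ⟶ Z') [Mono i] : IsPullback a b (f ≫ i) (g ≫ i) :=
  IsPullback.of_isLimit' ⟨by rw [reassoc_of% h.w]⟩ (PullbackCone.IsLimit.mk _
    (fun s => h.lift s.fst s.snd ((cancel_mono i).1 (by simpa using s.condition)))
    (fun s => h.lift_fst _ _ _) (fun s => h.lift_snd _ _ _)
    (fun s m h1 h2 => h.hom_ext (by simpa using h1) (by simpa using h2)))

theorem isPullback_of_comp_mono {W X Y Z Z' : Scheme.{u}} {a : W ⟶ X} {b : W ⟶ Y} {f : X ⟶ Z} {g : Y ⟶ Z}
    (i : Z ⟶ Z') [Mono i] (h : IsPullback a b (f ≫ i) (g ≫ i)) : IsPullback a b f g :=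
  IsPullback.of_isLimit' ⟨(cancel_mono i).1 (by simpa using h.w)⟩ (PullbackCone.IsLimit.mk _
    (fun s => h.lift s.fst s.snd (by rw [reassoc_of% s.condition]))
    (fun s => h.lift_fst _ _ _) (fun s => h.lift_snd _ _ _)
    (fun s m h1 h2 => h.hom_ext (by simpa using h1) (by simpa using h2)))

/-- The kernel of the map to the base change along an extension of fields of the fraction field is the torsion. -/
theorem ker_includeLeft_field {C R : Type u} [CommRing C] [IsDomain C] [CommRing R] [Algebra C R] (K : Type u)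
    [Field K] [Algebra C K] (hK : Function.Injective (algebraMap C K)) :
    RingHom.ker (Algebra.TensorProduct.includeLeftRingHom : R →+* R ⊗[C] K) = tors (algebraMap C R) := by
  refine le_antisymm (fun r hr => ?_) fun r hr => ?_
  · let L := FractionRing C
    let i : L →+* K := IsFractionRing.lift hK
    letI : Algebra L K := i.toAlgebra
    haveI : IsScalarTower C L K := IsScalarTower.of_algebraMap_eq fun x => (IsFractionRing.lift_algebraMap hK x).symm
    obtain ⟨p, hp⟩ := (Algebra.linearMap L K).exists_leftInverse_of_injective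
      (LinearMap.ker_eq_bot.2 (algebraMap L K).injective)
    have h1 : r ⊗ₜ[C] (1 : L) = 0 := by
      have h0 : r ⊗ₜ[C] (1 : K) = 0 := hr
      have h2 := congrArg ((p.restrictScalars C).lTensor R) h0
      rw [map_zero, LinearMap.lTensor_tmul, LinearMap.restrictScalars_apply] at h2
      rwa [show p 1 = 1 by simpa using LinearMap.congr_fun hp 1] at h2
    haveI : IsLocalizedModule (nonZeroDivisors C) (TensorProduct.mk C L R 1) :=
      (isLocalizedModule_iff_isBaseChange (nonZeroDivisors C) L _).2 (TensorProduct.isBaseChange C R L)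
    have h3 : TensorProduct.mk C L R 1 r = 0 := by
      have := congrArg (TensorProduct.comm C R L) h1
      simpa using this
    obtain ⟨c, hc⟩ := (IsLocalizedModule.eq_zero_iff (nonZeroDivisors C) _).1 h3
    exact ⟨c, c.2, by rw [← Algebra.smul_def]; exact hc⟩
  · obtain ⟨c, hc, hcr⟩ := hr
    show r ⊗ₜ[C] (1 : K) = 0
    have hne : algebraMap C K c ≠ 0 := fun h => nonZeroDivisors.ne_zero hc (hK (h.trans (map_zero _).symm))
    calc r ⊗ₜ[C] (1 : K) = r ⊗ₜ[C] (c • (algebraMap C K c)⁻¹) := by rw [Algebra.smul_def, mul_inv_cancel₀ hne]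
      _ = (c • r) ⊗ₜ[C] (algebraMap C K c)⁻¹ := (TensorProduct.smul_tmul c r _).symm
      _ = 0 := by rw [Algebra.smul_def, hcr, TensorProduct.zero_tmul]

theorem ker_specMap_eq {R Q Q' : CommRingCat.{u}} (θ : R ⟶ Q) (θ' : R ⟶ Q')
    (h : RingHom.ker θ.hom = RingHom.ker θ'.hom) : (Spec.map θ).ker = (Spec.map θ').ker := by
  have key : ∀ {Q : CommRingCat.{u}} (θ : R ⟶ Q),
      RingHom.ker (Spec.map θ).appTop.hom = Ideal.comap (Scheme.ΓSpecIso R).hom.hom (RingHom.ker θ.hom) := by
    intro Q θ
    ext x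
    rw [RingHom.mem_ker, Ideal.mem_comap, RingHom.mem_ker]
    have e : (Scheme.ΓSpecIso Q).hom.hom ((Spec.map θ).appTop.hom x) = θ.hom ((Scheme.ΓSpecIso R).hom.hom x) :=
      ConcreteCategory.congr_hom (Scheme.ΓSpecIso_naturality θ) x
    rw [← e, map_eq_zero_iff _ (ConcreteCategory.bijective_of_isIso (Scheme.ΓSpecIso Q).hom).1]
  rw [Scheme.ker_of_isAffine, Scheme.ker_of_isAffine, key, key, h]

variable {X P : Scheme.{u}}

/-- Near every point the quotient by torsion over an affine open of the base is flat. -/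
def GenFlat (g : X ⟶ P) : Prop :=
  ∀ x : X, ∃ (C R : CommRingCat.{u}) (φ : C ⟶ R) (e : Spec R ⟶ X) (w : Spec C ⟶ P) (_ : IsOpenImmersion e)
    (_ : IsOpenImmersion w), x ∈ Set.range e ∧ e ≫ g = Spec.map φ ≫ w ∧ FlatHull φ.hom

/-- A flat closed subscheme containing the generic fibre. -/
theorem exists_flat_closed_generic [IsIntegral P] [IsLocallyNoetherian P] (g : X ⟶ P) [LocallyOfFiniteType g]
    [QuasiCompact g] [QuasiSeparated g] (H : GenFlat g) :
    ∃ (Z : Scheme.{u}) (r : Z ⟶ X), IsClosedImmersion r ∧ closure (g ⁻¹' {genericPoint P}) ⊆ Set.range r ∧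
      Flat (r ≫ g) ∧ LocallyOfFinitePresentation (r ≫ g) ∧ QuasiCompact (r ≫ g) ∧ QuasiSeparated (r ≫ g) := by
  let η := genericPoint P
  let j₀ := P.fromSpecStalk η
  haveI : QuasiCompact j₀ := quasiCompact_of_compactSpace j₀
  let j : pullback g j₀ ⟶ X := pullback.fst g j₀
  haveI : QuasiCompact j := MorphismProperty.pullback_fst _ _ ‹_›
  let r : j.image ⟶ X := j.imageι
  have hgen : closure (g ⁻¹' {η}) ⊆ Set.range r := by
    rw [Scheme.IdealSheafData.range_subschemeι, Scheme.Hom.support_ker]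
    refine closure_mono ?_
    rw [show Set.range j = g ⁻¹' Set.range j₀ from Scheme.Pullback.range_fst _ _]
    refine Set.preimage_mono (Set.singleton_subset_iff.2 ?_)
    rw [Scheme.range_fromSpecStalk]
    exact specializes_rfl
  have key : ∀ x : X, ∃ (T : Scheme.{u}) (t : T ⟶ j.image), IsOpenImmersion t ∧ (∀ z, r z = x → z ∈ Set.range t) ∧
      Flat (t ≫ r ≫ g) := by
    intro x
    obtain ⟨C, R, φ, e, w, he, hw, ⟨z₀, hz₀⟩, hc, hflat⟩ := H x
    haveI := he; haveI := hw
    haveI : Nonempty (Spec C) := ⟨Spec.map φ z₀⟩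
    haveI : IsIntegral (Spec C) := isIntegral_of_isOpenImmersion w
    haveI : IsDomain C := (affine_isIntegral_iff C).1 inferInstance
    have hη : ∀ p, j₀ p ∈ Set.range w := fun p => by
      have hp : j₀ p ∈ {y | y ⤳ η} := by
        rw [← Scheme.range_fromSpecStalk]; exact ⟨p, rfl⟩
      have : η ∈ Set.range w := ((genericPoint_spec P).mem_open_set_iff w.isOpenEmbedding.isOpen_range).2
        (by simpa using Set.range_nonempty w)
      exact w.isOpenEmbedding.isOpen_range.stableUnderGeneralization hp this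
    obtain ⟨ψ, hψ⟩ := Spec.map_surjective (IsOpenImmersion.lift w j₀ (by rintro _ ⟨p, rfl⟩; exact hη p))
    have hjw : Spec.map ψ ≫ w = j₀ := by rw [hψ, IsOpenImmersion.lift_fac]
    letI : Algebra C (P.presheaf.stalk η) := ψ.hom.toAlgebra
    letI : Algebra C R := φ.hom.toAlgebra
    let b : ↥(Spec C) := (⟨⊥, Ideal.isPrime_bot⟩ : PrimeSpectrum C)
    have hψi : Function.Injective ψ.hom := by
      let p₀ : ↥(Spec (P.presheaf.stalk η)) := IsLocalRing.closedPoint (P.presheaf.stalk η)
      let q := Spec.map ψ p₀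
      have hq : w q = η := by
        rw [← Scheme.Hom.comp_apply, hjw]
        exact Scheme.fromSpecStalk_closedPoint
      have hbq : b ⤳ q := (PrimeSpectrum.le_iff_specializes b q).1 bot_le
      have h1 : w b ⤳ η := hq ▸ hbq.map w.continuous
      have h2 : w b = η := (h1.antisymm ((genericPoint_spec P).specializes trivial)).eq
      have h3 : b = q := w.isOpenEmbedding.injective (h2.trans hq.symm)
      refine (RingHom.injective_iff_ker_eq_bot _).2 (le_bot_iff.1 fun c hc => ?_)
      have hb : b.asIdeal = q.asIdeal := congrArg PrimeSpectrum.asIdeal h3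
      refine (hb.ge (show c ∈ q.asIdeal from ?_) : c ∈ (⊥ : Ideal C))
      show ψ.hom c ∈ p₀.asIdeal
      rw [RingHom.mem_ker.1 hc]
      exact zero_mem _
    have hF : IsField (P.presheaf.stalk η) := Field.toIsField P.functionField
    letI : Field (P.presheaf.stalk η) := hF.toField
    let θ : R ⟶ CommRingCat.of (R ⊗[C] P.presheaf.stalk η) :=
      CommRingCat.ofHom Algebra.TensorProduct.includeLeftRingHom
    have hp2 : IsPullback (pullback.fst e j) (pullback.snd e j ≫ pullback.snd g j₀) (Spec.map φ) (Spec.map ψ) := by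
      refine isPullback_of_comp_mono w ?_
      rw [← hc, hjw]
      exact (IsPullback.of_hasPullback e j).paste_vert (IsPullback.of_hasPullback g j₀)
    have hfst : hp2.isoPullback.hom ≫ (pullbackSpecIso C R (P.presheaf.stalk η)).hom ≫ Spec.map θ =
        pullback.fst e j := by
      rw [← Category.assoc]
      refine Eq.trans ?_ hp2.isoPullback_hom_fst
      rw [Category.assoc, pullbackSpecIso_hom_fst]
      rfl
    let μ : R ⟶ CommRingCat.of (R ⧸ tors φ.hom) := CommRingCat.ofHom (Ideal.Quotient.mk _)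
    haveI : IsClosedImmersion (Spec.map μ) := IsClosedImmersion.spec_of_surjective _ Ideal.Quotient.mk_surjective
    have hker : (pullback.fst e r).ker = (Spec.map μ).ker := by
      have h1 : (pullback.fst e r).ker = (pullback.fst e j).ker := by
        rw [Scheme.IdealSheafData.ker_fst_of_isClosedImmersion, Scheme.IdealSheafData.ker_subschemeι]
        refine Scheme.IdealSheafData.ext (funext fun V => ?_)
        rw [Scheme.IdealSheafData.ideal_comap_of_isOpenImmersion,
          Scheme.ker_ideal_of_isPullback_of_isOpenImmersion j (pullback.fst e j) (pullback.snd e j) e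
            (IsPullback.of_hasPullback e j)]
      rw [h1, ← hfst, ← Category.assoc, Scheme.Hom.ker_comp_of_isIso]
      refine ker_specMap_eq θ μ ?_
      show _ = RingHom.ker (Ideal.Quotient.mk (tors φ.hom))
      rw [Ideal.mk_ker]
      exact ker_includeLeft_field (P.presheaf.stalk η) hψi
    let l := IsClosedImmersion.lift (pullback.fst e r) (Spec.map μ) hker.le
    haveI : IsIso l := IsClosedImmersion.isIso_of_ker_eq (Spec.map μ) (pullback.fst e r) l
      (IsClosedImmersion.lift_fac _ _ _) hker.symm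
    refine ⟨_, l ≫ pullback.snd e r, inferInstance, fun z hz => ?_, ?_⟩
    · obtain ⟨t, -, ht⟩ := Scheme.Pullback.exists_preimage_pullback z₀ z (hz₀.trans hz.symm)
      obtain ⟨t', rfl⟩ := (inferInstance : Surjective l).surj t
      exact ⟨t', by rw [Scheme.Hom.comp_apply]; exact ht⟩
    · have hfac : (l ≫ pullback.snd e r) ≫ r ≫ g = Spec.map (φ ≫ μ) ≫ w := by
        rw [Category.assoc, ← pullback.condition_assoc, IsClosedImmersion.lift_fac_assoc, hc, Spec.map_comp,
          Category.assoc]
      rw [hfac]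
      haveI : Flat (Spec.map (φ ≫ μ)) := (HasRingHomProperty.Spec_iff (P := @Flat)).2 hflat
      infer_instance
  choose T t ht hcov hfl using key
  haveI := ht
  let 𝒰 : j.image.OpenCover := Scheme.Cover.mkOfCovers X T t (fun z => by
    obtain ⟨z', hz'⟩ := hcov (r z) z rfl
    exact ⟨r z, z', hz'⟩) (fun x => ht x)
  haveI : Flat (r ≫ g) := IsZariskiLocalAtSource.of_openCover 𝒰 fun x => hfl x
  haveI : IsLocallyNoetherian X := LocallyOfFiniteType.isLocallyNoetherian g
  exact ⟨_, r, inferInstance, hgen, inferInstance, inferInstance, inferInstance, inferInstance⟩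

/-- A flat closed subscheme with all points. -/
theorem exists_flat_closed_of_genFlat [IsIntegral P] [IsLocallyNoetherian P] (g : X ⟶ P) [LocallyOfFiniteType g]
    [QuasiCompact g] [QuasiSeparated g] [UniversallyOpen g] [Surjective g] (H : GenFlat g) :
    ∃ (Z : Scheme.{u}) (r : Z ⟶ X), IsClosedImmersion r ∧ Surjective r ∧ Flat (r ≫ g) ∧ Surjective (r ≫ g) ∧
      LocallyOfFinitePresentation (r ≫ g) ∧ QuasiCompact (r ≫ g) ∧ QuasiSeparated (r ≫ g) := by
  obtain ⟨Z, r, h1, h2, h3, h4, h5, h6⟩ := exists_flat_closed_generic g H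
  haveI : Surjective r := ⟨fun x => h2 ((Dense.preimage
    (dense_iff_closure_eq.2 (genericPoint_spec P)) g.isOpenMap) x)⟩
  exact ⟨Z, r, h1, inferInstance, h3, inferInstance, h4, h5, h6⟩

/-- The closure condition can be checked on a cover by open immersions over open immersions. -/
theorem GenFlat.of_cover (g : X ⟶ P)
    (H : ∀ x : X, ∃ (X' P' : Scheme.{u}) (g' : X' ⟶ P') (e : X' ⟶ X) (w : P' ⟶ P) (_ : IsOpenImmersion e)
      (_ : IsOpenImmersion w), x ∈ Set.range e ∧ e ≫ g = g' ≫ w ∧ GenFlat g') : GenFlat g := fun x => by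
  obtain ⟨X', P', g', e, w, he, hw, ⟨x', rfl⟩, hc, hg⟩ := H x
  obtain ⟨C, R, φ, e', w', he', hw', ⟨z, rfl⟩, hc', hflat⟩ := hg x'
  refine ⟨C, R, φ, e' ≫ e, w' ≫ w, inferInstance, inferInstance, ⟨z, Scheme.Hom.comp_apply _ _ _⟩, ?_, hflat⟩
  rw [Category.assoc, hc, reassoc_of% hc']

theorem genFlat_of_hullChart {Y : Scheme.{u}} (f : X ⟶ Y) (U : Y.affineOpens) {A : Type u} [CommRing A]
    [IsDomain A] {ι : Type} (a : CommRingCat.of A ≅ Γ(Y, U.1)) (V : ι → X.affineOpens) (hV : ∀ i, (V i).1 ≤ f ⁻¹ᵁ U.1)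
    (hcov : ∀ x, f x ∈ U.1 → ∃ i, x ∈ (V i).1) [∀ i, Algebra A Γ(X, (V i).1)]
    (halg : ∀ i, CommRingCat.ofHom (algebraMap A Γ(X, (V i).1)) = a.hom ≫ f.appLE U.1 (V i).1 (hV i))
    (C : Type u) [CommRing C] [IsDomain C] [Algebra A C] (k : Spec (CommRingCat.of C) ⟶ Y)
    (hk : k = Spec.map (a.inv ≫ CommRingCat.ofHom (algebraMap A C)) ≫ U.2.fromSpec)
    (hflat : ∀ i, FlatHull (algebraMap C (C ⊗[A] Γ(X, (V i).1)))) : GenFlat (pullback.snd f k) := by
  intro x
  subst hk
  have hx : f (pullback.fst f _ x) ∈ U.1 := by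
    rw [← Scheme.Hom.comp_apply, pullback.condition, ← Category.assoc, Scheme.Hom.comp_apply]
    exact U.2.range_fromSpec.le ⟨_, rfl⟩
  obtain ⟨i, hi⟩ := hcov _ hx
  let S := Γ(X, (V i).1)
  let u : Spec Γ(Y, U.1) ⟶ Y := U.2.fromSpec
  let θ : Spec (CommRingCat.of A) ⟶ Y := Spec.map a.inv ≫ u
  haveI : Mono θ := inferInstance
  have hf : (V i).2.fromSpec ≫ f = Spec.map (CommRingCat.ofHom (algebraMap A S)) ≫ θ := by
    rw [halg, ← IsAffineOpen.SpecMap_appLE_fromSpec f U.2 (V i).2 (hV i)]
    simp only [θ, u, ← Category.assoc, ← Spec.map_comp]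
    rw [a.inv_hom_id, Category.id_comp]
  let k := Spec.map (a.inv ≫ CommRingCat.ofHom (algebraMap A C)) ≫ U.2.fromSpec
  have hk' : k = Spec.map (CommRingCat.ofHom (algebraMap A C)) ≫ θ := by
    simp [k, θ, u, Spec.map_comp]
  let jL := Spec.map (CommRingCat.ofHom (Algebra.TensorProduct.includeLeftRingHom : C →+* C ⊗[A] S))
  let jR := Spec.map (CommRingCat.ofHom (Algebra.TensorProduct.includeRight : S →ₐ[A] C ⊗[A] S).toRingHom)
  have h0 : IsPullback jL jR (Spec.map (CommRingCat.ofHom (algebraMap A C)))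
      (Spec.map (CommRingCat.ofHom (algebraMap A S))) :=
    isPullback_SpecMap_of_isPushout _ _ _ _ (CommRingCat.isPushout_tensorProduct A C S)
  have h1 : IsPullback jR jL ((V i).2.fromSpec ≫ f) k := by
    rw [hf, hk']; exact isPullback_comp_mono h0.flip θ
  let e : Spec (CommRingCat.of (C ⊗[A] S)) ⟶ pullback f k :=
    h1.isoPullback.hom ≫ (pullbackRightPullbackFstIso f k (V i).2.fromSpec).inv ≫ pullback.snd _ _
  refine ⟨CommRingCat.of C, CommRingCat.of (C ⊗[A] S), CommRingCat.ofHom (algebraMap C (C ⊗[A] S)), e, 𝟙 _,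
    inferInstance, inferInstance, ?_, ?_, hflat i⟩
  · have : x ∈ Set.range (pullback.snd (V i).2.fromSpec (pullback.fst f k)) := by
      rw [Scheme.Pullback.range_snd]
      exact (V i).2.range_fromSpec.ge hi
    obtain ⟨y, rfl⟩ := this
    refine ⟨(h1.isoPullback ≪≫ (pullbackRightPullbackFstIso f k (V i).2.fromSpec).symm).inv y, ?_⟩
    rw [← Scheme.Hom.comp_apply]
    simp [e]; rfl
  · rw [Category.comp_id]
    show e ≫ pullback.snd f k = jL
    simp [e, IsPullback.isoPullback_hom_snd]

end Groth.Agent.NilFlatLib
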