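import Groth.Agent.NilFlatLib.Closure
import Groth.Agent.NilFlatLib.Basic
import Groth.Agent.SubtrRefineLib.Local
import Groth.Agent.ValEtDescLib.ProperLocal

/-! A proper surjective base change making a universally open morphism flat up to nilpotents. -/

set_option autoImplicit false
set_option linter.style.haveILetI false
set_option backward.isDefEq.respectTransparency false
set_option backward.isDefEq.respectTransparency.types false

universe u
open CategoryTheory CategoryTheory.Limits AlgebraicGeometry TopologicalSpace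
open scoped TensorProduct

noncomputable section

namespace Groth.Agent.NilFlatLib

open Groth.Agent.ValEtDescLib Groth.Agent.SubtrRefineLib

variable {X Y : Scheme.{u}}

/-- On every affine domain mapping dominantly to the base the quotient by torsion is flat. -/
def DomFlat (f : X ⟶ Y) {W : Scheme.{u}} (k : W ⟶ Y) : Prop :=
  ∀ (C : Type u) [CommRing C] [IsDomain C] (w : Spec (CommRingCat.of C) ⟶ W) (k' : Spec (CommRingCat.of C) ⟶ Y),
    w ≫ k = k' → IsDominant k' → GenFlat (pullback.snd f k')

theorem DomFlat.of_comp {f : X ⟶ Y} {W W' : Scheme.{u}} {k : W ⟶ Y} (H : DomFlat f k) (h : W' ⟶ W) {k' : W' ⟶ Y}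
    (e : h ≫ k = k') : DomFlat f k' := fun C _ _ w k'' hw hd => H C (w ≫ h) k'' (by rw [Category.assoc, e, hw]) hd

theorem exists_near_domFlat [IsIntegral Y] [IsNoetherian Y] (f : X ⟶ Y) [LocallyOfFinitePresentation f]
    [QuasiCompact f] (U : Y.affineOpens) :
    ∃ (P : Scheme.{u}) (b : P ⟶ Y), IsProper b ∧ Surjective b ∧ Near (fun {_} k => DomFlat f k) b U.1 := by
  classical
  rcases Set.eq_empty_or_nonempty (U.1 : Set Y) with hU | hU
  · exact ⟨Y, 𝟙 Y, inferInstance, inferInstance, fun z hz => (Set.eq_empty_iff_forall_notMem.1 hU _ hz).elim⟩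
  haveI : Nonempty U.1 := hU.to_subtype
  let A := Γ(Y, U.1)
  haveI : IsDomain A := inferInstance
  haveI : IsNoetherianRing A := IsLocallyNoetherian.component_noetherian U
  obtain ⟨t, ht⟩ := (f.isCompact_preimage U.2.isCompact).elim_finite_subcover
    (fun V : {V : X.affineOpens // V.1 ≤ f ⁻¹ᵁ U.1} => ((V.1 : X.Opens) : Set X)) (fun V => V.1.1.isOpen) fun x hx => by
      obtain ⟨V, hV, hxV, hVU⟩ := exists_isAffineOpen_mem_and_subset (X := X) (x := x) (U := f ⁻¹ᵁ U.1) hx
      exact Set.mem_iUnion.2 ⟨⟨⟨V, hV⟩, hVU⟩, hxV⟩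
  let V : Fin t.card → X.affineOpens := fun i => (t.equivFin.symm i).1.1
  have hV : ∀ i, (V i).1 ≤ f ⁻¹ᵁ U.1 := fun i => (t.equivFin.symm i).1.2
  have hcov : ∀ x, f x ∈ U.1 → ∃ i, x ∈ (V i).1 := fun x hx => by
    obtain ⟨W, hW, hxW⟩ := Set.mem_iUnion₂.1 (ht hx)
    exact ⟨t.equivFin ⟨W, hW⟩, by simpa [V] using hxW⟩
  letI : ∀ i, Algebra A Γ(X, (V i).1) := fun i => (f.appLE U.1 (V i).1 (hV i)).hom.toAlgebra
  haveI : ∀ i, Algebra.FinitePresentation A Γ(X, (V i).1) := fun i =>
    HasRingHomProperty.appLE @LocallyOfFinitePresentation f inferInstance U (V i) (hV i)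
  obtain ⟨A₀, cs, -, hgood, hcs⟩ := exists_finite_charts (HullChart (A := A) fun i => Γ(X, (V i).1))
    (exists_hullChart fun i => Γ(X, (V i).1))
  obtain ⟨P, b, h1, h2, h3⟩ := exists_modification_open (A := A₀) U (CommRingCat.ofHom A₀.val.toRingHom) cs hcs
  refine ⟨P, b, h1, h2, fun z hz => ?_⟩
  obtain ⟨W, j, hj, hzj, c, hc, l, k, hk, hl⟩ := h3 z hz
  haveI := hj
  refine ⟨j.opensRange, hzj, DomFlat.of_comp (k := j ≫ b) ?_ j.isoOpensRange.inv
    (by rw [Scheme.Hom.isoOpensRange_inv_comp_assoc])⟩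
  intro C _ _ w k₀ hk₀ hw
  subst hk₀
  obtain ⟨k', hk'⟩ := exists_hom_chart A₀.val.toRingHom c (w ≫ k) (w ≫ l) (by rw [Category.assoc, hk, Category.assoc])
  obtain ⟨ω, hω⟩ := Spec.map_surjective (w ≫ l)
  obtain ⟨κ, hκ⟩ := Spec.map_surjective k'
  letI : Algebra A C := ω.hom.toAlgebra
  have hwk : w ≫ j ≫ b = Spec.map ω ≫ U.2.fromSpec := by rw [hω, Category.assoc, hl]
  have hinj : Function.Injective (algebraMap A C) := by
    have hd : DenseRange (Spec.map ω) := by
      have h4 : DenseRange (w ≫ j ≫ b) := hw.denseRange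
      rw [hwk] at h4
      have h5 := Dense.preimage h4 U.2.fromSpec.isOpenEmbedding.isOpenMap
      rwa [Scheme.Hom.comp_base, TopCat.coe_comp, Set.range_comp,
        U.2.fromSpec.isOpenEmbedding.injective.preimage_image] at h5
    have h6 := (PrimeSpectrum.denseRange_comap_iff_ker_le_nilRadical _).1 hd
    rw [nilradical_eq_zero] at h6
    exact (RingHom.injective_iff_ker_eq_bot _).2 (le_bot_iff.1 h6)
  have hflat := hgood c hc C hinj ⟨κ.hom, by
    have : Spec.map (CommRingCat.ofHom (algebraMap A (c.map A₀.val.toRingHom).Ring) ≫ κ) = Spec.map ω := by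
      rw [Spec.map_comp, hκ, hω]
      exact hk'
    exact congrArg CommRingCat.Hom.hom (Spec.map_injective this)⟩
  exact genFlat_of_hullChart f U (Iso.refl _) V hV hcov (fun i => by simp; rfl) C (w ≫ j ≫ b)
    (by rw [hwk]; simp; rfl) hflat

/-- Over an integral noetherian base there is a proper surjective integral base change with flat closure of
the generic fibre. -/
theorem exists_genFlat [IsIntegral Y] [IsNoetherian Y] (f : X ⟶ Y) [LocallyOfFinitePresentation f] [QuasiCompact f] :
    ∃ (P : Scheme.{u}) (q : P ⟶ Y), IsIntegral P ∧ IsProper q ∧ Surjective q ∧ GenFlat (pullback.snd f q) := by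
  classical
  obtain ⟨t, ht⟩ := isCompact_univ.elim_finite_subcover (fun V : Y.affineOpens => ((V : Y.Opens) : Set Y))
    (fun V => V.1.isOpen) fun y _ => by
      obtain ⟨V, hV, hy, -⟩ := exists_isAffineOpen_mem_and_subset (X := Y) (x := y) (U := ⊤) trivial
      exact Set.mem_iUnion.2 ⟨⟨V, hV⟩, hy⟩
  obtain ⟨P, q, hq1, hq2, hq3⟩ := exists_near_all (Q := fun {_} k => DomFlat f k) (fun H h _ e => H.of_comp h e)
    @IsProper (fun V : t => V.1.1) (fun y => by
      obtain ⟨V, hV, hy⟩ := Set.mem_iUnion₂.1 (ht (Set.mem_univ y))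
      exact ⟨⟨V, hV⟩, hy⟩) fun V => exists_near_domFlat f V.1
  haveI := hq1; haveI := hq2
  obtain ⟨w, hw⟩ := q.surjective (genericPoint Y)
  let Z : Closeds P := ⟨irreducibleComponent w, isClosed_irreducibleComponent⟩
  haveI := isIntegral_component Z isIrreducible_irreducibleComponent
  let i := (Scheme.IdealSheafData.vanishingIdeal Z).subschemeι
  haveI : Surjective (i ≫ q) := ⟨fun y => by
    obtain ⟨w', hw'⟩ : w ∈ Set.range i := by
      rw [Scheme.IdealSheafData.range_subschemeι, Scheme.IdealSheafData.coe_support_vanishingIdeal]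
      exact mem_irreducibleComponent
    have h : genericPoint Y ∈ Set.range (i ≫ q) := ⟨w', by rw [Scheme.Hom.comp_apply, hw', hw]⟩
    have hcl : IsClosed (Set.range (i ≫ q)) := (i ≫ q).isClosedMap.isClosed_range
    exact ((genericPoint_spec Y).specializes trivial).mem_closed hcl h⟩
  refine ⟨_, i ≫ q, inferInstance, inferInstance, inferInstance, GenFlat.of_cover _ fun x => ?_⟩
  let P₀ := (Scheme.IdealSheafData.vanishingIdeal Z).subscheme
  let z := pullback.snd f (i ≫ q) x
  obtain ⟨W, hzW, hWQ⟩ := hq3 (i z)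
  obtain ⟨O, hO, hzO, hOW⟩ := exists_isAffineOpen_mem_and_subset (X := P₀) (x := z) (U := i ⁻¹ᵁ W) hzW
  haveI : Nonempty O := ⟨⟨z, hzO⟩⟩
  haveI : IsDomain Γ(P₀, O) := inferInstance
  have hrange : Set.range (hO.fromSpec ≫ i) ⊆ Set.range W.ι := by
    rintro _ ⟨p, rfl⟩
    rw [Scheme.Opens.range_ι, Scheme.Hom.comp_apply]
    exact hOW (hO.range_fromSpec.le ⟨p, rfl⟩)
  let w₀ := IsOpenImmersion.lift W.ι (hO.fromSpec ≫ i) hrange
  have hw₀ : w₀ ≫ W.ι ≫ q = hO.fromSpec ≫ i ≫ q := by rw [IsOpenImmersion.lift_fac_assoc, Category.assoc]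
  haveI : IsDominant hO.fromSpec := ⟨by
    rw [DenseRange, hO.range_fromSpec]
    exact O.isOpen.dense ⟨z, hzO⟩⟩
  have hg := hWQ Γ(P₀, O) w₀ (hO.fromSpec ≫ i ≫ q) hw₀ inferInstance
  refine ⟨_, _, pullback.snd f (hO.fromSpec ≫ i ≫ q), bcMap f hO.fromSpec rfl, hO.fromSpec,
    MorphismProperty.of_isPullback (P := @IsOpenImmersion) (isPullback_bcMap f hO.fromSpec rfl).flip inferInstance,
    inferInstance, ?_, (isPullback_bcMap f hO.fromSpec rfl).w, hg⟩
  obtain ⟨p, hp⟩ := hO.range_fromSpec.ge hzO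
  obtain ⟨y, hy, -⟩ := Scheme.exists_preimage_of_isPullback (isPullback_bcMap f hO.fromSpec rfl) x p hp.symm
  exact ⟨y, hy⟩

/-- A universally open surjective morphism of finite type to a noetherian scheme becomes flat up to nilpotents
after a proper surjective base change. -/
theorem exists_flat_nil [IsNoetherian Y] (f : X ⟶ Y) [LocallyOfFinitePresentation f] [QuasiCompact f]
    [QuasiSeparated f] [UniversallyOpen f] [Surjective f] :
    ∃ (Y' : Scheme.{u}) (q : Y' ⟶ Y) (X' : Scheme.{u}) (r : X' ⟶ pullback f q),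
      IsProper q ∧ Surjective q ∧ LocallyOfFinitePresentation q ∧
      IsClosedImmersion r ∧ Surjective r ∧
      Flat (r ≫ pullback.snd f q) ∧ Surjective (r ≫ pullback.snd f q) ∧
      LocallyOfFinitePresentation (r ≫ pullback.snd f q) ∧ QuasiCompact (r ≫ pullback.snd f q) ∧
      QuasiSeparated (r ≫ pullback.snd f q) := by
  classical
  let Z := irreducibleComponents Y
  haveI : Finite Z := NoetherianSpace.finite_irreducibleComponents.to_subtype
  let Zc : Z → Closeds Y := fun q => ⟨q.1, isClosed_of_mem_irreducibleComponents _ q.2⟩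
  let I : Z → Y.IdealSheafData := fun q => Scheme.IdealSheafData.vanishingIdeal (Zc q)
  let i : ∀ q, (I q).subscheme ⟶ Y := fun q => (I q).subschemeι
  have key : ∀ q : Z, ∃ (P : Scheme.{u}) (b : P ⟶ (I q).subscheme) (T : Scheme.{u}) (r : T ⟶ pullback f (b ≫ i q)),
      IsProper b ∧ Surjective b ∧ IsClosedImmersion r ∧ Surjective r ∧ Flat (r ≫ pullback.snd f (b ≫ i q)) := by
    intro q
    haveI := isIntegral_component (Zc q) q.2.1
    haveI : IsLocallyNoetherian (I q).subscheme := LocallyOfFiniteType.isLocallyNoetherian (i q)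
    haveI : CompactSpace (I q).subscheme := QuasiCompact.compactSpace_of_compactSpace (i q)
    haveI : IsNoetherian (I q).subscheme := ⟨⟩
    let g := pullback.snd f (i q)
    haveI : LocallyOfFinitePresentation g := MorphismProperty.pullback_snd _ _ inferInstance
    haveI : QuasiCompact g := MorphismProperty.pullback_snd _ _ inferInstance
    obtain ⟨P, b, h1, h2, h3, h4⟩ := exists_genFlat g
    haveI := h1; haveI := h2; haveI := h3
    haveI : IsLocallyNoetherian P := LocallyOfFiniteType.isLocallyNoetherian b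
    let g' := pullback.snd g b
    haveI : LocallyOfFiniteType g' := MorphismProperty.pullback_snd _ _ inferInstance
    haveI : QuasiCompact g' := MorphismProperty.pullback_snd _ _ inferInstance
    haveI : QuasiSeparated g' := MorphismProperty.pullback_snd _ _ (MorphismProperty.pullback_snd _ _ inferInstance)
    haveI : UniversallyOpen g' := MorphismProperty.pullback_snd _ _ (MorphismProperty.pullback_snd _ _ inferInstance)
    haveI : Surjective g' := MorphismProperty.pullback_snd _ _ (MorphismProperty.pullback_snd _ _ inferInstance)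
    obtain ⟨T, r, hr1, hr2, hr3, -, -, -, -⟩ := exists_flat_closed_of_genFlat g' h4
    refine ⟨P, b, T, r ≫ (pullbackLeftPullbackSndIso f (i q) b).hom, h2, h3, inferInstance, inferInstance, ?_⟩
    rwa [Category.assoc, pullbackLeftPullbackSndIso_hom_snd]
  choose P b T r hprop hsurj hr1 hr2 hr3 using key
  haveI : IsProper (Limits.Sigma.map b) := SchDesc.prop_sigmaMap @IsProper b hprop
  haveI : IsFinite (Limits.Sigma.desc i) := QFinEtDesc.isFinite_sigmaDesc' _ i fun q => inferInstance
  let p := Limits.Sigma.map b ≫ Limits.Sigma.desc i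
  have hp : ∀ q, Sigma.ι P q ≫ p = b q ≫ i q := fun q => by simp [p]
  haveI : IsProper p := inferInstance
  haveI : Surjective p := ⟨fun y => by
    obtain ⟨q, hq, hyq⟩ : ∃ q, q ∈ Z ∧ y ∈ q :=
      ⟨irreducibleComponent y, irreducibleComponent_mem_irreducibleComponents y, mem_irreducibleComponent⟩
    obtain ⟨y', hy'⟩ : y ∈ Set.range (i ⟨q, hq⟩) := by
      rw [Scheme.IdealSheafData.range_subschemeι, Scheme.IdealSheafData.coe_support_vanishingIdeal]
      exact hyq
    obtain ⟨w, rfl⟩ := (hsurj ⟨q, hq⟩).surj y'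
    exact ⟨Sigma.ι P ⟨q, hq⟩ w, by rw [← Scheme.Hom.comp_apply, hp, Scheme.Hom.comp_apply]; exact hy'⟩⟩
  let m : ∀ q, pullback f (b q ≫ i q) ⟶ pullback f p := fun q => bcMap f (Sigma.ι P q) (hp q)
  have hm : ∀ q, IsPullback (m q) (pullback.snd f (b q ≫ i q)) (pullback.snd f p) (Sigma.ι P q) := fun q =>
    isPullback_bcMap f (Sigma.ι P q) (hp q)
  haveI : ∀ q, IsOpenImmersion (m q) := fun q =>
    MorphismProperty.of_isPullback (P := @IsOpenImmersion) (hm q).flip inferInstance
  let R : ∐ T ⟶ pullback f p := Limits.Sigma.desc fun q => r q ≫ m q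
  have hR : R ≫ pullback.snd f p = Limits.Sigma.map fun q => r q ≫ pullback.snd f (b q ≫ i q) :=
    Limits.Sigma.hom_ext _ _ fun q => by simp [R, (hm q).w]
  have hsq : ∀ q, IsPullback (Sigma.ι T q) (r q) R (m q) := fun q => IsPullback.of_bot (by
    rw [hR]; exact SchDesc.isPullback_sigmaMap (fun q => r q ≫ pullback.snd f (b q ≫ i q)) q) (by simp [R]) (hm q)
  have hcov : ∀ y, ∃ (q : Z) (z : ↥(pullback f (b q ≫ i q))), m q z = y := fun y => by
    obtain ⟨q, z', hz'⟩ := (sigmaOpenCover P).exists_eq (pullback.snd f p y)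
    obtain ⟨z, hz, -⟩ := Scheme.exists_preimage_of_isPullback (hm q) y z' hz'.symm
    exact ⟨q, z, hz⟩
  haveI : IsClosedImmersion R := IsZariskiLocalAtTarget.of_openCover
    (Scheme.Cover.mkOfCovers Z (fun q => pullback f (b q ≫ i q)) m hcov fun q => inferInstance) fun q => by
      show IsClosedImmersion (pullback.snd R (m q))
      rw [← (hsq q).isoPullback_inv_snd]
      exact MorphismProperty.RespectsIso.precomp _ _ _ (hr1 q)
  haveI : Surjective R := ⟨fun y => by
    obtain ⟨q, z, rfl⟩ := hcov y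
    obtain ⟨t, rfl⟩ := (hr2 q).surj z
    exact ⟨Sigma.ι T q t, by rw [← Scheme.Hom.comp_apply, (hsq q).w]; rfl⟩⟩
  haveI : Flat (R ≫ pullback.snd f p) := by
    rw [hR]
    exact SchDesc.prop_sigmaMap @Flat _ hr3
  haveI : IsLocallyNoetherian (∐ P) := LocallyOfFiniteType.isLocallyNoetherian p
  haveI : Surjective (pullback.snd f p) := MorphismProperty.pullback_snd _ _ inferInstance
  haveI : QuasiCompact (pullback.snd f p) := MorphismProperty.pullback_snd _ _ inferInstance
  haveI : QuasiSeparated (pullback.snd f p) := MorphismProperty.pullback_snd _ _ inferInstance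
  haveI : LocallyOfFiniteType (pullback.snd f p) := MorphismProperty.pullback_snd _ _ inferInstance
  exact ⟨_, p, _, R, inferInstance, inferInstance, inferInstance, inferInstance, inferInstance, inferInstance,
    inferInstance, inferInstance, inferInstance, inferInstance⟩

end Groth.Agent.NilFlatLib
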