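import Groth.Agent.NilFlatLib.Charts
import Groth.Agent.SubtrRefineLib.Descend

/-! Universal openness descends along limits with affine transition maps. -/

set_option autoImplicit false
set_option linter.style.haveILetI false
set_option backward.isDefEq.respectTransparency false
set_option backward.isDefEq.respectTransparency.types false

universe u
open CategoryTheory CategoryTheory.Limits AlgebraicGeometry TopologicalSpace

noncomputable section

namespace Groth.Agent.NilFlatLib

open Groth.Agent.ValEtDescLib Groth.Agent.SubtrRefineLib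

/-- Over an affine base, a universally open morphism of finite presentation comes from a finitely generated
subring. -/
theorem exists_model_universallyOpen (A : Type u) [CommRing A] {X : Scheme.{u}} (f : X ⟶ Spec (CommRingCat.of A))
    [LocallyOfFinitePresentation f] [QuasiCompact f] [QuasiSeparated f] [UniversallyOpen f] :
    ∃ (A₁ : Subalgebra ℤ A) (X₁ : Scheme.{u}) (f₁ : X₁ ⟶ Spec (CommRingCat.of A₁)) (q : X ⟶ X₁),
      A₁.FG ∧ IsPullback q f f₁ (Spec.map (CommRingCat.ofHom A₁.val.toRingHom)) ∧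
      LocallyOfFinitePresentation f₁ ∧ QuasiCompact f₁ ∧ QuasiSeparated f₁ ∧ UniversallyOpen f₁ := by
  obtain ⟨A₁, X₁, f₁, q, cs, hfg, hpb, h1, h2, h3, hgood, hcov⟩ := exists_charts_surj A f
  exact ⟨A₁, X₁, f₁, q, hfg, hpb, h1, h2, h3, universallyOpen_of_charts f₁ cs hgood hcov⟩

variable {J : Type u} [SmallCategory J] [IsCofiltered J] {X₀ Y₀ : Scheme.{u}}

set_option synthInstance.maxHeartbeats 800000

/-- Along a cofiltered system of affine schemes, universal openness in the limit holds at some stage. -/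
theorem exists_stage_universallyOpen (E : J ⥤ Scheme.{u}) (c : Cone E) (hc : IsLimit c) [∀ j, IsAffine (E.obj j)]
    [IsAffine c.pt] (e : E ⟶ (Functor.const _).obj Y₀) (eP : c.pt ⟶ Y₀) (heP : ∀ j, c.π.app j ≫ e.app j = eP)
    (f₀ : X₀ ⟶ Y₀) [LocallyOfFinitePresentation f₀] [QuasiCompact f₀] [QuasiSeparated f₀]
    [UniversallyOpen (pullback.snd f₀ eP)] :
    ∃ k, UniversallyOpen (pullback.snd f₀ (e.app k)) := by
  let fP := pullback.snd f₀ eP
  haveI : LocallyOfFinitePresentation fP := MorphismProperty.pullback_snd _ _ inferInstance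
  haveI : QuasiCompact fP := MorphismProperty.pullback_snd _ _ inferInstance
  haveI : QuasiSeparated fP := MorphismProperty.pullback_snd _ _ inferInstance
  obtain ⟨A₁, X₁, f₁, g, hfg, hpb', hl₁, hqc₁, hqs₁, ho₁⟩ :=
    exists_model_universallyOpen Γ(c.pt, ⊤) (fP ≫ c.pt.isoSpec.hom)
  haveI := hl₁; haveI := hqc₁; haveI := hqs₁; haveI := ho₁
  have hpb := isPullback_isoSpec hpb'
  let θ := c.pt.isoSpec.hom ≫ Spec.map (CommRingCat.ofHom A₁.val.toRingHom)
  haveI : Algebra.FiniteType ℤ A₁ := ⟨(Subalgebra.fg_top A₁).2 hfg⟩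
  haveI := lfp_specInt (R := A₁) inferInstance
  haveI : ∀ j, CompactSpace (E.obj j) := fun j => inferInstance
  haveI : ∀ j, QuasiSeparatedSpace (E.obj j) := fun j => inferInstance
  haveI : ∀ {i j : J} (h : i ⟶ j), IsAffineHom (E.map h) := fun h => inferInstance
  let tS : E ⟶ (Functor.const _).obj (Spec (CommRingCat.of (ULift.{u} ℤ))) :=
    { app := fun j => specULiftZIsTerminal.from _
      naturality := fun i j h => specULiftZIsTerminal.hom_ext _ _ }
  obtain ⟨j₁, e₁, he₁, -⟩ := Scheme.exists_π_app_comp_eq_of_locallyOfFinitePresentation E tS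
    (specULiftZIsTerminal.from (Spec (CommRingCat.of A₁))) c hc θ (by
      ext j
      exact specULiftZIsTerminal.hom_ext _ _)
  let a : pullback f₁ e₁ ⟶ E.obj j₁ := pullback.snd f₁ e₁
  haveI : UniversallyOpen a := MorphismProperty.pullback_snd _ _ ho₁
  haveI : LocallyOfFinitePresentation a := MorphismProperty.pullback_snd _ _ hl₁
  haveI : QuasiCompact a := MorphismProperty.pullback_snd _ _ hqc₁
  haveI : QuasiSeparated a := MorphismProperty.pullback_snd _ _ hqs₁
  let B := AffLim.baseChange E j₁ a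
  let cB := AffLim.baseChangeCone E c j₁ a
  obtain ⟨hcB⟩ := AffLim.nonempty_isLimit_baseChangeCone E c hc j₁ a
  haveI : ∀ k : Over j₁, CompactSpace (B.obj k) := fun k =>
    QuasiCompact.compactSpace_of_compactSpace (pullback.snd a (E.map k.hom))
  haveI : ∀ k : Over j₁, QuasiSeparatedSpace (B.obj k) := fun k =>
    quasiSeparatedSpace_of_quasiSeparated (pullback.snd a (E.map k.hom))
  haveI : ∀ {i k : Over j₁} (h : i ⟶ k), IsAffineHom (B.map h) := fun {i k} h => by
    haveI : IsAffineHom (pullback.fst a (E.map i.hom)) := MorphismProperty.pullback_fst _ _ inferInstance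
    have e : B.map h ≫ pullback.fst a (E.map k.hom) = pullback.fst a (E.map i.hom) := by
      simp [B, AffLim.baseChange, pullback.map]
    haveI : IsAffineHom (pullback.fst a (E.map k.hom)) := MorphismProperty.pullback_fst _ _ inferInstance
    haveI : IsAffineHom (B.map h ≫ pullback.fst a (E.map k.hom)) := by rw [e]; infer_instance
    exact IsAffineHom.of_comp (B.map h) (pullback.fst a (E.map k.hom))
  let tB : B ⟶ (Functor.const _).obj Y₀ :=
    { app := fun k => pullback.snd a (E.map k.hom) ≫ e.app k.left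
      naturality := fun i k h => by
        simp only [B, AffLim.baseChange, pullback.map, Functor.const_obj_obj, Functor.const_obj_map, Category.comp_id,
          pullback.lift_snd_assoc, Category.assoc]
        rw [← Category.comp_id (e.app i.left)]
        exact congrArg _ (e.naturality h.left) }
  have h' : IsPullback (pullback.fst a (c.π.app j₁) ≫ pullback.fst f₁ e₁) (pullback.snd a (c.π.app j₁)) f₁ θ := by
    rw [← he₁]
    exact (IsPullback.of_hasPullback _ _).paste_horiz (IsPullback.of_hasPullback f₁ e₁)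
  let Ψ : cB.pt ⟶ pullback f₀ eP := (h'.isoIsPullback _ _ hpb).hom
  have hΨ : Ψ ≫ fP = pullback.snd a (c.π.app j₁) := h'.isoIsPullback_hom_snd _ _ hpb
  haveI : IsIso Ψ := inferInstanceAs (IsIso (h'.isoIsPullback _ _ hpb).hom)
  obtain ⟨k, mk, hmk, hmk'⟩ := Scheme.exists_π_app_comp_eq_of_locallyOfFinitePresentation B tB f₀ cB hcB
    (Ψ ≫ pullback.fst f₀ eP) (by
    ext k
    show cB.π.app k ≫ pullback.snd a (E.map k.hom) ≫ e.app k.left = (Ψ ≫ pullback.fst f₀ eP) ≫ f₀
    rw [Category.assoc, pullback.condition, reassoc_of% hΨ, ← heP k.left]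
    simp [cB, AffLim.baseChangeCone, pullback.map])
  let ek := e.app k.left
  let mkl : B.obj k ⟶ pullback f₀ ek := pullback.lift mk (pullback.snd a (E.map k.hom)) hmk'
  let g₀ := pullback.snd f₀ ek
  have hmkl : mkl ≫ g₀ = pullback.snd a (E.map k.hom) := pullback.lift_snd _ _ _
  haveI : LocallyOfFinitePresentation g₀ := MorphismProperty.pullback_snd _ _ inferInstance
  haveI : QuasiCompact g₀ := MorphismProperty.pullback_snd _ _ inferInstance
  haveI : QuasiSeparated g₀ := MorphismProperty.pullback_snd _ _ inferInstance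
  haveI : CompactSpace ↥(pullback f₀ ek) := QuasiCompact.compactSpace_of_compactSpace g₀
  haveI : QuasiSeparatedSpace ↥(pullback f₀ ek) := quasiSeparatedSpace_of_quasiSeparated g₀
  haveI : LocallyOfFinitePresentation (mkl ≫ g₀) := by rw [hmkl]; infer_instance
  haveI : UniversallyOpen (mkl ≫ g₀) := by
    rw [hmkl]; exact MorphismProperty.pullback_snd _ _ ‹UniversallyOpen a›
  haveI : LocallyOfFinitePresentation mkl := FlatLocus.locallyOfFinitePresentation_of_comp mkl g₀
  haveI : QuasiCompact mkl := quasiCompact_of_compactSpace mkl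
  haveI : QuasiSeparated mkl := QuasiSeparated.of_quasiSeparatedSpace mkl
  have hsq := isPullback_bcMap f₀ (c.π.app k.left) (heP k.left)
  have hX : IsPullback (cB.π.app k) Ψ mkl (bcMap f₀ (c.π.app k.left) (heP k.left)) := by
    refine IsPullback.of_bot ?_ ?_ hsq
    · rw [show Ψ ≫ pullback.snd f₀ eP = pullback.snd a (c.π.app j₁) from hΨ, hmkl]
      refine IsPullback.of_right (h₁₂ := pullback.fst a (E.map k.hom)) ?_ (by simp [cB, AffLim.baseChangeCone, pullback.map])
        (IsPullback.of_hasPullback a (E.map k.hom))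
      simp only [cB, AffLim.baseChangeCone, pullback.map, pullback.lift_fst, Category.comp_id, c.w]
      exact IsPullback.of_hasPullback a (c.π.app j₁)
    · apply pullback.hom_ext
      · simp only [Category.assoc, mkl, pullback.lift_fst]
        exact hmk
      · simp only [Category.assoc, mkl, pullback.lift_snd]
        rw [reassoc_of% hΨ]
        simp [cB, AffLim.baseChangeCone, pullback.map]
  obtain ⟨n, hn⟩ := AffLim.exists_surjective_baseChange E c hc k.left mkl g₀ hsq hX
  refine ⟨n.left, ?_⟩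
  have hbn : E.map n.hom ≫ ek = e.app n.left := (e.naturality n.hom).trans (Category.comp_id _)
  haveI := hn
  haveI : UniversallyOpen ((AffLim.baseChangeMap E k.left mkl g₀).app n ≫ pullback.snd g₀ (E.map n.hom)) := by
    rw [show (AffLim.baseChangeMap E k.left mkl g₀).app n ≫ pullback.snd g₀ (E.map n.hom) =
      pullback.snd (mkl ≫ g₀) (E.map n.hom) by simp [AffLim.baseChangeMap]]
    exact MorphismProperty.pullback_snd _ _ ‹UniversallyOpen (mkl ≫ g₀)›
  haveI := SchTopo.universallyOpen_of_surjective_comp ((AffLim.baseChangeMap E k.left mkl g₀).app n)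
    (pullback.snd g₀ (E.map n.hom))
  rw [← (isPullback_bcMap f₀ (E.map n.hom) hbn).isoPullback_hom_snd]
  infer_instance

theorem universallyOpen_of_map (f₀ : X₀ ⟶ Y₀) {V W : Scheme.{u}} (v : V ⟶ Y₀) (w : W ⟶ Y₀) (h : V ⟶ W) (e : h ≫ w = v)
    (H : UniversallyOpen (pullback.snd f₀ w)) : UniversallyOpen (pullback.snd f₀ v) :=
  MorphismProperty.of_isPullback (P := @UniversallyOpen) (isPullback_bcMap f₀ h e) H

theorem exists_stage_of_limit_universallyOpen {I : Type u} [SmallCategory I] [IsCofiltered I]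
    (D : I ⥤ Scheme.{u}) (c : Limits.Cone D) (hc : Limits.IsLimit c)
    [∀ (i j : I) (a : i ⟶ j), IsAffineHom (D.map a)] (i₀ : I) (f₀ : X₀ ⟶ Y₀) (g₀ : Y₀ ⟶ D.obj i₀) [CompactSpace Y₀]
    [LocallyOfFinitePresentation f₀] [QuasiCompact f₀] [QuasiSeparated f₀]
    (hf : UniversallyOpen (pullback.snd f₀ (pullback.fst g₀ (c.π.app i₀)))) :
    ∃ k : Over i₀, UniversallyOpen (pullback.snd f₀ (pullback.fst g₀ (D.map k.hom))) := by
  classical
  haveI : ∀ {i j : I} (a : i ⟶ j), IsAffineHom (D.map a) := fun {i j} a => inferInstance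
  haveI := isAffineHom_π_app D c hc i₀
  obtain ⟨t, ht⟩ := isCompact_univ.elim_finite_subcover (fun V : Y₀.affineOpens => ((V : Y₀.Opens) : Set Y₀))
    (fun V => V.1.isOpen) fun y _ => by
      obtain ⟨V, hV, hy, -⟩ := exists_isAffineOpen_mem_and_subset (X := Y₀) (x := y) (U := ⊤) trivial
      exact Set.mem_iUnion.2 ⟨⟨V, hV⟩, hy⟩
  have key : ∀ V : Y₀.affineOpens, ∃ k : Over i₀,
      UniversallyOpen (pullback.snd f₀ (pullback.fst (V.1.ι ≫ g₀) (D.map k.hom) ≫ V.1.ι)) := fun V => by
    haveI : IsAffine V.1.toScheme := V.2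
    let E := AffLim.baseChange D i₀ (V.1.ι ≫ g₀)
    let cE := AffLim.baseChangeCone D c i₀ (V.1.ι ≫ g₀)
    obtain ⟨hcE⟩ := AffLim.nonempty_isLimit_baseChangeCone D c hc i₀ (V.1.ι ≫ g₀)
    haveI : ∀ k, IsAffine (E.obj k) := fun k => by
      haveI : IsAffineHom (pullback.fst (V.1.ι ≫ g₀) (D.map k.hom)) := MorphismProperty.pullback_fst _ _ inferInstance
      exact isAffine_of_isAffineHom (pullback.fst (V.1.ι ≫ g₀) (D.map k.hom))
    haveI : IsAffine cE.pt := by
      haveI : IsAffineHom (pullback.fst (V.1.ι ≫ g₀) (c.π.app i₀)) := MorphismProperty.pullback_fst _ _ inferInstance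
      exact isAffine_of_isAffineHom (pullback.fst (V.1.ι ≫ g₀) (c.π.app i₀))
    let e : E ⟶ (Functor.const _).obj Y₀ :=
      { app := fun k => pullback.fst (V.1.ι ≫ g₀) (D.map k.hom) ≫ V.1.ι
        naturality := fun i k h => by simp [E, AffLim.baseChange, pullback.map] }
    haveI : UniversallyOpen (pullback.snd f₀ (pullback.fst (V.1.ι ≫ g₀) (c.π.app i₀) ≫ V.1.ι)) :=
      universallyOpen_of_map f₀ _ (pullback.fst g₀ (c.π.app i₀))
        (pullback.map _ _ _ _ V.1.ι (𝟙 _) (𝟙 _) (by simp) (by simp)) (by simp [pullback.map]) hf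
    exact exists_stage_universallyOpen E cE hcE e (pullback.fst (V.1.ι ≫ g₀) (c.π.app i₀) ≫ V.1.ι)
      (fun k => by simp [e, cE, AffLim.baseChangeCone, pullback.map]) f₀
  choose k hk using key
  obtain ⟨K, hK⟩ := IsCofiltered.inf_objs_exists (t.image k)
  refine ⟨K, ?_⟩
  let v : ∀ V : t, pullback (V.1.1.ι ≫ g₀) (D.map K.hom) ⟶ pullback g₀ (D.map K.hom) := fun V =>
    pullback.map _ _ _ _ V.1.1.ι (𝟙 _) (𝟙 _) (by simp) (by simp)
  haveI hv : ∀ V, IsOpenImmersion (v V) := fun V => by
    dsimp only [v]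
    infer_instance
  let 𝒰 : (pullback g₀ (D.map K.hom)).OpenCover :=
    { I₀ := t
      X := fun V => pullback (V.1.1.ι ≫ g₀) (D.map K.hom)
      f := v
      mem₀ := by
        rw [Scheme.ofArrows_mem_precoverage_iff]
        refine ⟨fun y => ?_, hv⟩
        obtain ⟨V, hV, hy⟩ := Set.mem_iUnion₂.1 (ht (Set.mem_univ (pullback.fst g₀ (D.map K.hom) y)))
        refine ⟨⟨V, hV⟩, ?_⟩
        dsimp only [v]
        haveI : Mono (𝟙 (D.obj i₀)) := inferInstance
        rw [Scheme.Pullback.range_map]
        refine ⟨?_, by simp⟩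
        show _ ∈ Set.range V.1.ι
        rw [Scheme.Opens.range_ι]
        exact hy }
  refine (IsZariskiLocalAtTarget.iff_of_openCover (P := @UniversallyOpen) 𝒰).2 fun V => ?_
  obtain ⟨h⟩ := hK (Finset.mem_image_of_mem k V.2)
  have h1 : UniversallyOpen (pullback.snd f₀ (v V ≫ pullback.fst g₀ (D.map K.hom))) :=
    universallyOpen_of_map f₀ _ _ ((AffLim.baseChange D i₀ (V.1.1.ι ≫ g₀)).map h)
      (by simp [v, AffLim.baseChange, pullback.map]) (hk V.1)
  show UniversallyOpen (pullback.snd (pullback.snd f₀ (pullback.fst g₀ (D.map K.hom))) (v V))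
  refine (MorphismProperty.cancel_left_of_respectsIso (P := @UniversallyOpen)
    (pullbackLeftPullbackSndIso f₀ (pullback.fst g₀ (D.map K.hom)) (v V)).inv _).1 ?_
  rw [pullbackLeftPullbackSndIso_inv_snd_snd]
  exact h1

end Groth.Agent.NilFlatLib
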