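import Groth.Agent.RGFlatLib.Domain
import Groth.Agent.GrFlatLib.Main
import Groth.Agent.FlatStage.AlgGlobal

/-! Flatness of the quotient of an algebra by its torsion. -/

set_option autoImplicit false
set_option linter.style.haveILetI false
set_option backward.isDefEq.respectTransparency false

universe u
open scoped TensorProduct

noncomputable section

namespace Groth.Agent.NilFlatLib

variable {C R : Type u} [CommRing C] [CommRing R]

/-- The torsion ideal of an algebra. -/
def tors (φ : C →+* R) : Ideal R where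
  carrier := {r | ∃ c ∈ nonZeroDivisors C, φ c * r = 0}
  add_mem' := by
    rintro a b ⟨c, hc, hca⟩ ⟨d, hd, hdb⟩
    exact ⟨c * d, mul_mem hc hd, by rw [map_mul]; linear_combination (φ d) * hca + (φ c) * hdb⟩
  zero_mem' := ⟨1, one_mem _, mul_zero _⟩
  smul_mem' := by
    rintro x a ⟨c, hc, hca⟩
    exact ⟨c, hc, by rw [smul_eq_mul, mul_left_comm, hca, mul_zero]⟩

theorem mem_tors {φ : C →+* R} {r : R} : r ∈ tors φ ↔ ∃ c ∈ nonZeroDivisors C, φ c * r = 0 := Iff.rfl

/-- The quotient by the torsion is flat. -/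
def FlatHull (φ : C →+* R) : Prop := ((Ideal.Quotient.mk (tors φ)).comp φ).Flat

theorem tors_le_ker {φ : C →+* R} {Q : Type u} [CommRing Q] (ψ : R →+* Q) (hflat : (ψ.comp φ).Flat) :
    tors φ ≤ RingHom.ker ψ := by
  rintro r ⟨c, hc, hcr⟩
  letI : Algebra C Q := (ψ.comp φ).toAlgebra
  haveI : Module.Flat C Q := hflat
  have hreg : IsSMulRegular C c := fun x y hxy => (mul_cancel_left_mem_nonZeroDivisors hc).1 hxy
  refine hreg.rTensor Q |>.of_injective ((TensorProduct.lid C Q).symm : Q →ₗ[C] _) (LinearEquiv.injective _) ?_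
  show c • ψ r = c • 0
  rw [smul_zero, Algebra.smul_def]
  show ψ (φ c) * ψ r = 0
  rw [← map_mul, hcr, map_zero]

theorem flatHull_of_ker_le {φ : C →+* R} {Q : Type u} [CommRing Q] (ψ : R →+* Q) (hψ : Function.Surjective ψ)
    (hflat : (ψ.comp φ).Flat) (hker : RingHom.ker ψ ≤ tors φ) : FlatHull φ := by
  have he : RingHom.ker ψ = tors φ := le_antisymm hker (tors_le_ker ψ hflat)
  let e : Q ≃+* R ⧸ tors φ := (RingHom.quotientKerEquivOfSurjective hψ).symm.trans (Ideal.quotEquivOfEq he)
  have h : (Ideal.Quotient.mk (tors φ)).comp φ = e.toRingHom.comp (ψ.comp φ) := RingHom.ext fun c => by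
    apply e.symm.injective
    simp [e]
  rw [FlatHull, h]
  exact hflat.comp (RingHom.Flat.of_bijective e.bijective)

theorem FlatHull.comp_equiv {φ : C →+* R} (h : FlatHull φ) {R' : Type u} [CommRing R'] (e : R ≃+* R') :
    FlatHull (e.toRingHom.comp φ) := by
  refine flatHull_of_ker_le ((Ideal.Quotient.mk (tors φ)).comp e.symm.toRingHom)
    (Ideal.Quotient.mk_surjective.comp e.symm.surjective) ?_ fun r hr => ?_
  · rw [RingHom.comp_assoc, show e.symm.toRingHom.comp (e.toRingHom.comp φ) = φ from RingHom.ext fun c => e.symm_apply_apply _]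
    exact h
  · obtain ⟨c, hc, hcr⟩ := mem_tors.1 (Ideal.Quotient.eq_zero_iff_mem.1 hr)
    refine ⟨c, hc, ?_⟩
    have := congrArg e hcr
    simpa using this

theorem FlatHull.comp_equiv_left {φ : C →+* R} (h : FlatHull φ) {C' : Type u} [CommRing C'] (e : C' ≃+* C) :
    FlatHull (φ.comp e.toRingHom) := by
  refine flatHull_of_ker_le (Ideal.Quotient.mk (tors φ)) Ideal.Quotient.mk_surjective ?_ ?_
  · rw [← RingHom.comp_assoc]
    exact (RingHom.Flat.of_bijective e.bijective).comp h
  · rw [Ideal.mk_ker]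
    rintro r ⟨c, hc, hcr⟩
    exact ⟨e.symm c, (mem_nonZeroDivisors_iff_right.2 fun x hx => e.injective (by
      rw [map_zero]
      exact (mem_nonZeroDivisors_iff_right.1 hc) _ (by simpa using congrArg e hx))), by simpa using hcr⟩

section BaseChange

variable {A B T : Type u} [CommRing A] [CommRing B] [Algebra A B] [CommRing T] [Algebra A T] [Algebra B T]
  [IsScalarTower A B T] {S : Type u} [CommRing S] [Algebra A S] (J : Ideal (B ⊗[A] S))

/-- The base change of the quotient map of an ideal of a base change. -/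
def quotMap : T ⊗[A] S →ₐ[T] T ⊗[B] ((B ⊗[A] S) ⧸ J) :=
  (Algebra.TensorProduct.map (AlgHom.id T T) (Ideal.Quotient.mkₐ B J)).comp
    (Algebra.TensorProduct.cancelBaseChange A B T T S).symm.toAlgHom

theorem quotMap_surjective : Function.Surjective (quotMap (T := T) J) :=
  (LinearMap.lTensor_surjective T Ideal.Quotient.mk_surjective).comp
    (Algebra.TensorProduct.cancelBaseChange A B T T S).symm.surjective

theorem ker_quotMap : RingHom.ker (quotMap (T := T) J) =
    J.map (Algebra.TensorProduct.map (IsScalarTower.toAlgHom A B T) (AlgHom.id A S)).toRingHom := by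
  let e := Algebra.TensorProduct.cancelBaseChange A B T T S
  have h1 : RingHom.ker (Algebra.TensorProduct.map (AlgHom.id T T) (Ideal.Quotient.mkₐ B J)).toRingHom =
      J.map (Algebra.TensorProduct.includeRight : B ⊗[A] S →ₐ[B] T ⊗[B] (B ⊗[A] S)) := by
    have := Algebra.TensorProduct.lTensor_ker (R := B) (A := T) (Ideal.Quotient.mkₐ B J) Ideal.Quotient.mk_surjective
    rw [show RingHom.ker (Ideal.Quotient.mkₐ B J) = J from Ideal.mk_ker] at this
    exact this
  have h2 : (Algebra.TensorProduct.map (IsScalarTower.toAlgHom A B T) (AlgHom.id A S)).toRingHom =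
      e.toRingEquiv.toRingHom.comp
        (Algebra.TensorProduct.includeRight : B ⊗[A] S →ₐ[B] T ⊗[B] (B ⊗[A] S)).toRingHom := by
    refine RingHom.ext fun x => ?_
    induction x using TensorProduct.induction_on with
    | zero => simp
    | tmul b s => simp [e, Algebra.smul_def]
    | add x y hx hy => simp only [map_add, hx, hy]
  rw [h2, ← Ideal.map_map]
  show Ideal.comap e.symm.toRingEquiv.toRingHom
    (RingHom.ker (Algebra.TensorProduct.map (AlgHom.id T T) (Ideal.Quotient.mkₐ B J)).toRingHom) = _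
  rw [h1]
  exact (Ideal.map_comap_of_equiv e.toRingEquiv).symm

theorem flatHull_quotMap (hflat : Module.Flat T (T ⊗[B] ((B ⊗[A] S) ⧸ J))) (hT : Function.Injective (algebraMap B T))
    [IsDomain T] (hJ : ∀ x ∈ J, ∃ b : B, b ≠ 0 ∧ algebraMap B (B ⊗[A] S) b * x = 0) :
    FlatHull (algebraMap T (T ⊗[A] S)) := by
  refine flatHull_of_ker_le (Q := T ⊗[B] ((B ⊗[A] S) ⧸ J)) (quotMap (T := T) J).toRingHom (quotMap_surjective (T := T) J) ?_ ?_
  · rw [show (quotMap (T := T) J).toRingHom.comp (algebraMap T (T ⊗[A] S)) = algebraMap T _ from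
      (quotMap (T := T) J).comp_algebraMap]
    exact RingHom.flat_algebraMap_iff.2 hflat
  · show RingHom.ker (quotMap (T := T) J) ≤ _
    rw [ker_quotMap, Ideal.map_le_iff_le_comap]
    intro x hx
    obtain ⟨b, hb, hbx⟩ := hJ x hx
    refine ⟨algebraMap B T b, mem_nonZeroDivisors_of_ne_zero fun h => hb (hT (h.trans (map_zero _).symm)), ?_⟩
    have h3 := congrArg (Algebra.TensorProduct.map (IsScalarTower.toAlgHom A B T) (AlgHom.id A S)).toRingHom hbx
    rw [map_mul, map_zero] at h3
    refine Eq.trans ?_ h3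
    simp [Algebra.TensorProduct.algebraMap_apply]

/-- The flat quotient by torsion survives an injective change of domains. -/
theorem flatHull_baseChange (h : FlatHull (algebraMap B (B ⊗[A] S))) [IsDomain B] [IsDomain T]
    (hT : Function.Injective (algebraMap B T)) : FlatHull (algebraMap T (T ⊗[A] S)) := by
  haveI : Module.Flat B ((B ⊗[A] S) ⧸ tors (algebraMap B (B ⊗[A] S))) := RingHom.flat_algebraMap_iff.1 h
  exact flatHull_quotMap (tors (algebraMap B (B ⊗[A] S))) inferInstance hT fun x ⟨b, hb, hbx⟩ =>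
    ⟨b, nonZeroDivisors.ne_zero hb, hbx⟩

theorem flat_tensor_of_ker {I : Ideal (T ⊗[A] S)} (hI : Module.Flat T ((T ⊗[A] S) ⧸ I))
    (hker : RingHom.ker (quotMap (T := T) J).toRingHom = I) :
    Module.Flat T (T ⊗[B] ((B ⊗[A] S) ⧸ J)) := by
  let e : ((T ⊗[A] S) ⧸ I) ≃ₐ[T] T ⊗[B] ((B ⊗[A] S) ⧸ J) :=
    (Ideal.quotientEquivAlgOfEq T hker.symm).trans
      (Ideal.quotientKerAlgEquivOfSurjective (f := quotMap (T := T) J) (quotMap_surjective J))
  exact Module.Flat.of_linearEquiv e.toLinearEquiv.symm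

omit [Algebra B T] [IsScalarTower A B T] in
/-- A flat quotient by torsion over a domain descends to a finitely generated subalgebra. -/
theorem exists_flatHull_stage {O : Type u} [CommRing O] [IsDomain O] [Algebra A O] [Algebra B O] [IsScalarTower A B O]
    [Algebra.FiniteType A B] [Algebra.FinitePresentation A S] (hB : Function.Injective (algebraMap B O)) (hJfg : J.FG)
    (hJ : ∀ x ∈ J, ∃ b : B, b ≠ 0 ∧ algebraMap B (B ⊗[A] S) b * x = 0)
    (hflat : Module.Flat O (O ⊗[B] ((B ⊗[A] S) ⧸ J))) :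
    ∃ B' : Subalgebra A O, B'.FG ∧ FlatHull (algebraMap B' (B' ⊗[A] S)) := by
  haveI : Algebra.FinitePresentation B ((B ⊗[A] S) ⧸ J) := Algebra.FinitePresentation.quotient hJfg
  obtain ⟨T₀, -, hT₀⟩ := FlatStage.exists_flat_stage (A := B) (B := (B ⊗[A] S) ⧸ J) (GrFlatLib.subSys B O)
    (M := (B ⊗[A] S) ⧸ J) ⟨⊥, Subalgebra.fg_bot⟩ (GrFlatLib.subSys_dir B O) hflat
  let T₁ : {T : Subalgebra B O // T.FG} := T₀
  have hT : Module.Flat T₁.1 (T₁.1 ⊗[B] ((B ⊗[A] S) ⧸ J)) := hT₀
  have hTh : FlatHull (algebraMap T₁.1 (T₁.1 ⊗[A] S)) :=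
    flatHull_quotMap J hT (fun x y h => hB (congrArg Subtype.val h :)) hJ
  let B' : Subalgebra A O := T₁.1.restrictScalars A
  refine ⟨B', ?_, hTh⟩
  haveI : Algebra.FiniteType B T₁.1 := ⟨(Subalgebra.fg_top _).2 T₁.2⟩
  haveI : Algebra.FiniteType A T₁.1 := Algebra.FiniteType.trans (S := B) inferInstance inferInstance
  exact (Subalgebra.fg_top B').1 (Algebra.FiniteType.out (R := A) (A := T₁.1))

end BaseChange

theorem map_map_apply {A S : Type u} [CommRing A] [CommRing S] [Algebra A S] {P Q U : Type u} [CommRing P] [Algebra A P]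
    [CommRing Q] [Algebra A Q] [CommRing U] [Algebra A U] (f : P →ₐ[A] Q) (g : Q →ₐ[A] U) (h : P →ₐ[A] U)
    (e : g.comp f = h) (z : P ⊗[A] S) :
    Algebra.TensorProduct.map g (AlgHom.id A S) (Algebra.TensorProduct.map f (AlgHom.id A S) z) =
      Algebra.TensorProduct.map h (AlgHom.id A S) z := by
  subst e
  induction z using TensorProduct.induction_on with
  | zero => simp
  | tmul x y => simp
  | add x y hx hy => simp only [map_add, hx, hy]

theorem map_algebraMap_left {A S : Type u} [CommRing A] [CommRing S] [Algebra A S] {P Q : Type u} [CommRing P] [Algebra A P]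
    [CommRing Q] [Algebra A Q] (f : P →ₐ[A] Q) (x : P) :
    Algebra.TensorProduct.map f (AlgHom.id A S) (algebraMap P (P ⊗[A] S) x) = algebraMap Q (Q ⊗[A] S) (f x) := by
  simp [Algebra.TensorProduct.algebraMap_apply]

/-- Torsion elements of the base change come from torsion elements over a finitely generated subalgebra. -/
theorem exists_lift_torsion {A O : Type u} [CommRing A] [CommRing O] [Nontrivial O] [Algebra A O]
    {S : Type u} [CommRing S] [Algebra A S] (g : O ⊗[A] S) (hg : g ∈ tors (algebraMap O (O ⊗[A] S))) :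
    ∃ (k : {T : Subalgebra A O // T.FG}) (a : k.1 ⊗[A] S) (b : k.1), b ≠ 0 ∧
      algebraMap k.1 (k.1 ⊗[A] S) b * a = 0 ∧
      Algebra.TensorProduct.map k.1.val (AlgHom.id A S) a = g := by
  classical
  obtain ⟨o, ho, hog⟩ := hg
  let Sys := GrFlatLib.subSys A O
  let k₁ : {T : Subalgebra A O // T.FG} :=
    ⟨Algebra.adjoin A {o}, by simpa using Subalgebra.fg_adjoin_finset (R := A) ({o} : Finset O)⟩
  obtain ⟨k', f, a', ha'⟩ := PullbackMod.AlgSystem.exists_lift Sys k₁ g
  let k : {T : Subalgebra A O // T.FG} := k'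
  let a : k.1 ⊗[A] S := a'
  have ha : Algebra.TensorProduct.map k.1.val (AlgHom.id A S) a = g := ha'
  have hok : o ∈ k.1 := f.down.down (Algebra.self_mem_adjoin_singleton A o)
  have h0 : Algebra.TensorProduct.map k.1.val (AlgHom.id A S) (algebraMap k.1 (k.1 ⊗[A] S) ⟨o, hok⟩ * a) = 0 := by
    rw [map_mul, map_algebraMap_left, ha]
    exact hog
  obtain ⟨l', f', hl'⟩ := PullbackMod.AlgSystem.exists_zero Sys k
    ((algebraMap k.1 (k.1 ⊗[A] S) ⟨o, hok⟩ * a : k.1 ⊗[A] S)) h0
  let l : {T : Subalgebra A O // T.FG} := l'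
  have hle : k.1 ≤ l.1 := f'.down.down
  let τ := Algebra.TensorProduct.map (Subalgebra.inclusion hle) (AlgHom.id A S)
  have hl : τ (algebraMap k.1 (k.1 ⊗[A] S) ⟨o, hok⟩ * a) = 0 := hl'
  rw [map_mul, map_algebraMap_left] at hl
  refine ⟨l, τ a, ⟨o, hle hok⟩, fun h => nonZeroDivisors.ne_zero ho (congrArg Subtype.val h), hl, ?_⟩
  exact (map_map_apply _ _ k.1.val rfl a).trans ha

/-- Over a valuation ring the quotient by torsion is flat, and this holds over a finitely generated subalgebra. -/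
theorem exists_flatHull_subalgebra {A O : Type u} [CommRing A] [CommRing O] [IsDomain O] [ValuationRing O]
    [Algebra A O] (S : Type u) [CommRing S] [Algebra A S] [Algebra.FinitePresentation A S] :
    ∃ B : Subalgebra A O, B.FG ∧ FlatHull (algebraMap B (B ⊗[A] S)) := by
  classical
  let I : Ideal (O ⊗[A] S) := tors (algebraMap O (O ⊗[A] S))
  haveI : Module.IsTorsionFree O ((O ⊗[A] S) ⧸ I) := by
    refine Module.IsTorsionFree.of_smul_eq_zero fun v x h => ?_
    obtain ⟨y, rfl⟩ := Ideal.Quotient.mk_surjective x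
    refine or_iff_not_imp_left.2 fun hv => Ideal.Quotient.eq_zero_iff_mem.2 ?_
    rw [Algebra.smul_def, IsScalarTower.algebraMap_apply O (O ⊗[A] S) ((O ⊗[A] S) ⧸ I), Ideal.Quotient.algebraMap_eq,
      ← map_mul, Ideal.Quotient.eq_zero_iff_mem] at h
    obtain ⟨w, hw, hwy⟩ := h
    exact ⟨w * v, mul_mem hw (mem_nonZeroDivisors_of_ne_zero hv), by rw [map_mul, mul_assoc, hwy]⟩
  haveI : Module.Flat O ((O ⊗[A] S) ⧸ I) := by
    rw [Module.Flat.flat_iff_torsion_eq_bot_of_isBezout, ← Submodule.isTorsionFree_iff_torsion_eq_bot]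
    infer_instance
  haveI : Module.FinitePresentation (O ⊗[A] S) ((O ⊗[A] S) ⧸ I) := RGFlatLib.finitePresentation_of_flat_isDomain (R := O)
  obtain ⟨t, ht⟩ : I.FG := by
    have := Module.FinitePresentation.fg_ker I.mkQ I.mkQ_surjective
    rwa [Submodule.ker_mkQ] at this
  let Sys := GrFlatLib.subSys A O
  have key : ∀ g : t, ∃ (k : {T : Subalgebra A O // T.FG}) (a : k.1 ⊗[A] S) (b : k.1), b ≠ 0 ∧
      algebraMap k.1 (k.1 ⊗[A] S) b * a = 0 ∧
      Algebra.TensorProduct.map k.1.val (AlgHom.id A S) a = g.1 := fun g =>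
    exists_lift_torsion g.1 (ht.le (Ideal.subset_span g.2))
  choose k a b hb hba hag using key
  obtain ⟨k₀, -, hk₀⟩ := FlatStage.exists_ub Sys ⟨⊥, Subalgebra.fg_bot⟩ (GrFlatLib.subSys_dir A O) (Finset.univ.image k)
  let B : Subalgebra A O := k₀.1
  have hle : ∀ g, (k g).1 ≤ B := fun g => (hk₀ _ (Finset.mem_image_of_mem _ (Finset.mem_univ g))).some.down.down
  let τ : ∀ g, (k g).1 ⊗[A] S →ₐ[A] B ⊗[A] S := fun g =>
    Algebra.TensorProduct.map (Subalgebra.inclusion (hle g)) (AlgHom.id A S)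
  let J : Ideal (B ⊗[A] S) := Ideal.span (Set.range fun g => τ g (a g))
  have hJ : ∀ x ∈ J, ∃ c : B, c ≠ 0 ∧ algebraMap B (B ⊗[A] S) c * x = 0 := by
    intro x hx
    have : J ≤ tors (algebraMap B (B ⊗[A] S)) := Ideal.span_le.2 (by
      rintro _ ⟨g, rfl⟩
      refine ⟨⟨(b g).1, hle g (b g).2⟩, mem_nonZeroDivisors_of_ne_zero fun h => hb g (Subtype.ext (congrArg Subtype.val h :)), ?_⟩
      have h3 := congrArg (τ g) (hba g)
      rw [map_mul, map_zero, map_algebraMap_left] at h3
      exact h3)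
    obtain ⟨c, hc, hcx⟩ := this hx
    exact ⟨c, nonZeroDivisors.ne_zero hc, hcx⟩
  have hker : RingHom.ker (quotMap (T := O) J) = I := by
    rw [ker_quotMap]
    refine Eq.trans ?_ ht
    rw [Ideal.map_span, ← Set.range_comp]
    have hval : ∀ g, Algebra.TensorProduct.map (IsScalarTower.toAlgHom A B O) (AlgHom.id A S) (τ g (a g)) = g.1 :=
      fun g => (map_map_apply _ _ (k g).1.val (AlgHom.ext fun _ => rfl) (a g)).trans (hag g)
    refine congrArg Ideal.span (Set.ext fun x => ⟨?_, fun hx => ⟨⟨x, hx⟩, hval _⟩⟩)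
    rintro ⟨g, rfl⟩
    exact Set.mem_of_eq_of_mem (hval g) g.2
  haveI : Algebra.FiniteType A B := ⟨(Subalgebra.fg_top _).2 k₀.2⟩
  exact exists_flatHull_stage J Subtype.val_injective (Submodule.fg_span (Set.finite_range _)) hJ
    (flat_tensor_of_ker J (inferInstanceAs (Module.Flat O ((O ⊗[A] S) ⧸ I))) hker)

end Groth.Agent.NilFlatLib
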