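import Groth.Agent.NilFlatLib.Hull
import Groth.Agent.ValEtDescLib.Modification

/-! Charts on which the quotient by torsion is flat. -/

set_option autoImplicit false
set_option linter.style.haveILetI false
set_option backward.isDefEq.respectTransparency false

universe u
open scoped TensorProduct

noncomputable section

namespace Groth.Agent.NilFlatLib

open Groth.Agent.ValEtDescLib

variable {A : Type u} [CommRing A] {ι : Type} (S : ι → Type u) [∀ i, CommRing (S i)] [∀ i, Algebra A (S i)]

/-- Every domain on the chart has flat quotients by torsion. -/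
def HullChart (c : Chart A) : Prop :=
  ∀ (C : Type u) [CommRing C] [IsDomain C] [Algebra A C], Function.Injective (algebraMap A C) →
    (∃ kk : c.Ring →+* C, kk.comp (algebraMap A c.Ring) = algebraMap A C) →
    ∀ i, FlatHull (algebraMap C (C ⊗[A] S i))

theorem flatHull_mono {O : Type u} [CommRing O] [IsDomain O] [Algebra A O] {S₁ : Type u} [CommRing S₁] [Algebra A S₁]
    {B B' : Subalgebra A O} (h : B ≤ B') (hB : FlatHull (algebraMap B (B ⊗[A] S₁))) :
    FlatHull (algebraMap B' (B' ⊗[A] S₁)) := by
  letI : Algebra B B' := (Subalgebra.inclusion h).toRingHom.toAlgebra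
  haveI : IsScalarTower A B B' := IsScalarTower.of_algebraMap_eq fun _ => rfl
  exact flatHull_baseChange hB (fun x y h' => Subtype.ext (congrArg Subtype.val h' :))

/-- A finitely generated subring of an overring contained in the fraction field maps injectively to every domain. -/
theorem hullChart_of_subalgebra [IsDomain A] {O : Type u} [CommRing O] [IsDomain O] [Algebra A O]
    (hA : Function.Injective (algebraMap A O))
    (hfrac : ∀ x : O, ∃ a s : A, s ≠ 0 ∧ x * algebraMap A O s = algebraMap A O a)
    {n : ℕ} (v : Fin n → O) (F : Finset (MvPolynomial (Fin n) A))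
    (hF : Ideal.span (F : Set (MvPolynomial (Fin n) A)) = RingHom.ker (MvPolynomial.aeval v : MvPolynomial (Fin n) A →ₐ[A] O))
    (hflat : ∀ i, FlatHull (algebraMap (MvPolynomial.aeval v : MvPolynomial (Fin n) A →ₐ[A] O).range
      ((MvPolynomial.aeval v : MvPolynomial (Fin n) A →ₐ[A] O).range ⊗[A] S i)))
    (den : A) (num : Fin n → A) : HullChart S ⟨n, den, num, F⟩ := by
  rintro C _ _ _ hC ⟨kk, hkk⟩ i
  let c : Chart A := ⟨n, den, num, F⟩
  let ev : MvPolynomial (Fin n) A →ₐ[A] O := MvPolynomial.aeval v
  let kA : c.Ring →ₐ[A] C := { kk with commutes' := fun x => RingHom.congr_fun hkk x }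
  let e : (MvPolynomial (Fin n) A ⧸ RingHom.ker ev) ≃ₐ[A] ev.range := Ideal.quotientKerEquivRange ev
  let g : ev.range →ₐ[A] C :=
    kA.comp (((Ideal.quotientEquivAlgOfEq A hF).symm.toAlgHom).comp e.symm.toAlgHom)
  have hg : Function.Injective g := (injective_iff_map_eq_zero g).2 fun x hx => by
    obtain ⟨a', s', hs0, hs⟩ := hfrac x.1
    have hs' : x * algebraMap A ev.range s' = algebraMap A ev.range a' := Subtype.ext hs
    have h1 := congrArg g hs'
    rw [map_mul, hx, zero_mul, g.commutes] at h1
    have h2 : a' = 0 := hC (h1.symm.trans (map_zero _).symm)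
    rw [h2, map_zero] at hs'
    exact (mul_eq_zero.1 hs').resolve_right fun h => hs0 (hA ((congrArg Subtype.val h).trans (map_zero _).symm))
  letI : Algebra ev.range C := g.toRingHom.toAlgebra
  haveI : IsScalarTower A ev.range C := IsScalarTower.of_algebraMap_eq fun x => (g.commutes x).symm
  exact flatHull_baseChange (hflat i) hg

/-- Finitely many algebras have flat quotients by torsion over one finitely generated subalgebra of a valuation
ring. -/
theorem exists_generators [Finite ι] [∀ i, Algebra.FinitePresentation A (S i)] [IsNoetherianRing A] (O : Type u)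
    [CommRing O] [IsDomain O] [ValuationRing O] [Algebra A O] :
    ∃ (n : ℕ) (v : Fin n → O) (F : Finset (MvPolynomial (Fin n) A)),
      Ideal.span (F : Set (MvPolynomial (Fin n) A)) = RingHom.ker (MvPolynomial.aeval v : MvPolynomial (Fin n) A →ₐ[A] O) ∧
      ∀ i, FlatHull (algebraMap (MvPolynomial.aeval v : MvPolynomial (Fin n) A →ₐ[A] O).range
        ((MvPolynomial.aeval v : MvPolynomial (Fin n) A →ₐ[A] O).range ⊗[A] S i)) := by
  classical
  haveI := Fintype.ofFinite ι
  choose Bi hBi hBh using fun i => exists_flatHull_subalgebra (A := A) (O := O) (S i)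
  let B : Subalgebra A O := Finset.univ.sup Bi
  have hBfg : B.FG := Finset.sup_induction Subalgebra.fg_bot (fun _ h _ h' => h.sup h') fun i _ => hBi i
  obtain ⟨t, ht⟩ := hBfg
  let v : Fin t.card → O := fun k => (t.equivFin.symm k).1
  have hrange : B = (MvPolynomial.aeval v : MvPolynomial (Fin t.card) A →ₐ[A] O).range := by
    rw [← Algebra.adjoin_range_eq_range_aeval, ← ht]
    congr 1
    ext x
    exact ⟨fun hx => ⟨t.equivFin ⟨x, hx⟩, by simp [v]⟩, fun ⟨k, hk⟩ => hk ▸ (t.equivFin.symm k).2⟩
  obtain ⟨F, hF⟩ : (RingHom.ker (MvPolynomial.aeval v : MvPolynomial (Fin t.card) A →ₐ[A] O)).FG :=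
    IsNoetherian.noetherian _
  exact ⟨_, v, F, hF, fun i => flatHull_mono ((Finset.le_sup (Finset.mem_univ i)).trans hrange.le) (hBh i)⟩

variable [IsDomain A] [IsNoetherianRing A] [Finite ι] [∀ i, Algebra.FinitePresentation A (S i)]

theorem exists_hullChart (K : Type u) [Field K] (ψ : A →+* K) (O : ValuationSubring K) (hO : ∀ x, ψ x ∈ O) :
    ∃ c : Chart A, HullChart S c ∧ c.Has ψ O := by
  classical
  by_cases hψ : Function.Injective ψ
  swap
  · obtain ⟨b, hb, hb0⟩ : ∃ b, ψ b = 0 ∧ b ≠ 0 := by
      rw [injective_iff_map_eq_zero] at hψ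
      push Not at hψ
      exact hψ
    let c : Chart A := ⟨0, 1, Fin.elim0, {MvPolynomial.C b}⟩
    refine ⟨c, fun C _ _ _ hC ⟨kk, hkk⟩ => absurd (hC (?_ : algebraMap A C b = algebraMap A C 0)) hb0, ?_, fun i => i.elim0, ?_⟩
    · rw [← hkk, RingHom.comp_apply, RingHom.comp_apply, map_zero (algebraMap A c.Ring)]
      exact congrArg kk (Ideal.Quotient.eq_zero_iff_mem.2 (Ideal.subset_span (Finset.mem_singleton_self _)))
    · simp [c]
    · intro r hr
      rw [Finset.mem_singleton.1 hr, MvPolynomial.eval₂_C, hb]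
  let K' := FractionRing A
  let j : K' →+* K := IsFractionRing.lift hψ
  have hj : ∀ x, j (algebraMap A K' x) = ψ x := IsFractionRing.lift_algebraMap hψ
  let O' := O.comap j
  have hO' : ∀ x, algebraMap A K' x ∈ O' := fun x => by
    show j _ ∈ O
    rw [hj]; exact hO x
  letI : Algebra A O' := ((algebraMap A K').codRestrict O'.toSubring hO').toAlgebra
  obtain ⟨n, v, F, hF, hflat⟩ := exists_generators (A := A) S O'
  obtain ⟨b, hb⟩ := IsLocalization.exist_integer_multiples_of_finset (nonZeroDivisors A) (Finset.univ.image fun k => ((v k : O') : K'))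
  have hnum : ∀ k, ∃ a : A, algebraMap A K' a = algebraMap A K' b * ((v k : O') : K') := fun k => by
    obtain ⟨a, ha⟩ := hb _ (Finset.mem_image_of_mem _ (Finset.mem_univ k))
    exact ⟨a, ha.trans (Algebra.smul_def _ _)⟩
  choose a ha using hnum
  have hA : Function.Injective (algebraMap A O') := fun x y h =>
    IsFractionRing.injective A K' (congrArg Subtype.val h :)
  have hbK : algebraMap A K' b ≠ 0 := fun h => nonZeroDivisors.ne_zero b.2
    (IsFractionRing.injective A K' (h.trans (map_zero _).symm))
  have hfrac : ∀ k, ψ (a k) / ψ b = j ((v k : O') : K') := fun k => by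
    rw [← hj, ← hj, ← map_div₀, ha, mul_div_cancel_left₀ _ hbK]
  refine ⟨⟨n, b, a, F⟩, hullChart_of_subalgebra S hA (fun x => ?_) v F hF hflat b a, ?_, fun k => ?_, fun r hr => ?_⟩
  · obtain ⟨⟨a', s'⟩, hs⟩ := IsLocalization.surj (nonZeroDivisors A) ((x : K'))
    exact ⟨a', s', nonZeroDivisors.ne_zero s'.2, Subtype.ext hs⟩
  · show ψ b ≠ 0
    rw [← hj]
    exact fun h => hbK (j.injective (h.trans (map_zero _).symm))
  · show ψ (a k) / ψ b ∈ O
    rw [hfrac]
    exact (v k).2
  · show MvPolynomial.eval₂ ψ (fun k => ψ (a k) / ψ b) r = 0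
    have h1 : (j.comp O'.subtype) ((MvPolynomial.aeval v : MvPolynomial (Fin n) A →ₐ[A] O') r) = 0 := by
      rw [show (MvPolynomial.aeval v : MvPolynomial (Fin n) A →ₐ[A] O') r = 0 from (hF.le (Ideal.subset_span hr))]
      exact map_zero _
    refine Eq.trans ?_ h1
    rw [MvPolynomial.aeval_def, MvPolynomial.eval₂_comp_left]
    congr 1
    · exact RingHom.ext fun x => (hj x).symm
    · exact funext hfrac

end Groth.Agent.NilFlatLib
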