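import Groth.Agent.NilFlatLib.Basic
import Groth.Agent.ValEtDescLib.OpenRefine
import Groth.Agent.AffLim.DescendMore

/-! Surjective flat refinements pass to stages and exist at finitely presented algebras. -/

set_option autoImplicit false
set_option linter.style.haveILetI false
set_option backward.isDefEq.respectTransparency false
set_option backward.isDefEq.respectTransparency.types false

universe u
open CategoryTheory CategoryTheory.Limits AlgebraicGeometry

noncomputable section

namespace Groth.Agent.NilFlatLib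

open Groth.Agent.ValEtDescLib

theorem exists_stage_surjRefinable {X S P : Scheme.{u}} {g : X ⟶ S} [LocallyOfFinitePresentation g]
    [QuasiCompact g] [QuasiSeparated g]
    {f : P ⟶ S} {J : Type u} [SmallCategory J] [IsCofiltered J] (σ : AffSys f J) [IsAffine P]
    (H : SurjRefinable g f) : ∃ k, SurjRefinable g (σ.toBase.app k) := by
  obtain ⟨T, t, m, hm, h1, h2, h3, h4, h5⟩ := H
  haveI := h1; haveI := h2; haveI := h3; haveI := h4; haveI := h5
  haveI : CompactSpace T := QuasiCompact.compactSpace_of_compactSpace t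
  haveI : QuasiSeparatedSpace T := quasiSeparatedSpace_of_quasiSeparated t
  have hc := σ.isLimit
  haveI : ∀ k, CompactSpace (σ.sys.obj k) := fun k => inferInstance
  haveI : ∀ k, QuasiSeparatedSpace (σ.sys.obj k) := fun k => inferInstance
  haveI : ∀ (i j : J) (h : i ⟶ j), IsAffineHom (σ.sys.map h) := fun i j h => inferInstance
  haveI : ∀ {i j : J} (h : i ⟶ j), IsAffineHom (σ.sys.map h) := fun {i j} h => inferInstance
  obtain ⟨k₀, T₀, f₀, gT, hl, hqc, hqs, hpb⟩ := Groth.Agent.S0591.result σ.sys σ.cone hc T t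
  haveI : CompactSpace T₀ := QuasiCompact.compactSpace_of_compactSpace f₀
  have hY : IsPullback (σ.cone.π.app k₀) (𝟙 _) (𝟙 (σ.sys.obj k₀)) (σ.cone.π.app k₀) :=
    IsPullback.of_vert_isIso ⟨by simp⟩
  obtain ⟨kf, hkf⟩ := FlatStage.exists_flat σ.sys σ.cone k₀ f₀ (𝟙 _) hY hpb hc
  -- a flat model
  let a : T₀ ⟶ σ.sys.obj k₀ := f₀ ≫ 𝟙 _
  haveI : LocallyOfFinitePresentation a := inferInstance
  haveI : QuasiCompact a := inferInstance
  haveI : QuasiSeparated a := inferInstance
  let f₁ := pullback.snd a (σ.sys.map kf.hom)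
  haveI : LocallyOfFinitePresentation f₁ := MorphismProperty.pullback_snd _ _ inferInstance
  haveI : QuasiCompact f₁ := MorphismProperty.pullback_snd _ _ inferInstance
  haveI : QuasiSeparated f₁ := MorphismProperty.pullback_snd _ _ inferInstance
  haveI : Flat f₁ := by
    haveI := hkf
    haveI : IsIso (pullback.snd (𝟙 (σ.sys.obj k₀)) (σ.sys.map kf.hom)) := inferInstance
    rw [show f₁ = (AffLim.baseChangeMap σ.sys k₀ f₀ (𝟙 _)).app kf ≫ pullback.snd (𝟙 _) (σ.sys.map kf.hom) by
        simp [f₁, a, AffLim.baseChangeMap]]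
    infer_instance
  have hw : σ.cone.π.app kf.left ≫ σ.sys.map kf.hom = σ.cone.π.app k₀ := σ.cone.w kf.hom
  let g₁ : T ⟶ pullback a (σ.sys.map kf.hom) := pullback.lift gT (t ≫ σ.cone.π.app kf.left) (by
    rw [Category.assoc, hw]; simpa [a] using hpb.w)
  have hpb₁ : IsPullback g₁ t f₁ (σ.cone.π.app kf.left) := IsPullback.of_right (by
    rw [pullback.lift_fst, hw]; simpa [a] using hpb) (pullback.lift_snd _ _ _) (IsPullback.of_hasPullback _ _)
  -- the map at a stage
  let B := AffLim.baseChange σ.sys kf.left f₁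
  let cB := FlatStage.vCone σ.sys σ.cone kf.left f₁ hpb₁
  obtain ⟨hcB⟩ := FlatStage.nonempty_isLimit_vCone σ.sys σ.cone kf.left f₁ hpb₁ hc
  haveI : ∀ j : Over kf.left, CompactSpace (B.obj j) := fun j =>
    haveI : QuasiCompact (pullback.snd f₁ (σ.sys.map j.hom)) := MorphismProperty.pullback_snd _ _ inferInstance
    QuasiCompact.compactSpace_of_compactSpace (pullback.snd f₁ (σ.sys.map j.hom))
  haveI : ∀ j : Over kf.left, QuasiSeparatedSpace (B.obj j) := fun j =>
    haveI : QuasiSeparated (pullback.snd f₁ (σ.sys.map j.hom)) := MorphismProperty.pullback_snd _ _ inferInstance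
    quasiSeparatedSpace_of_quasiSeparated (pullback.snd f₁ (σ.sys.map j.hom))
  have htlmap : ∀ {i j : Over kf.left} (h : i ⟶ j), IsPullback (B.map h) (pullback.snd f₁ (σ.sys.map i.hom))
      (pullback.snd f₁ (σ.sys.map j.hom)) (σ.sys.map h.left) := fun {i j} h => by
    refine IsPullback.of_right (h₁₂ := pullback.fst f₁ (σ.sys.map j.hom)) (v₁₃ := f₁) (h₂₂ := σ.sys.map j.hom)
      ?_ (pullback.lift_snd _ _ _) (IsPullback.of_hasPullback f₁ (σ.sys.map j.hom))
    simp only [B, AffLim.baseChange, pullback.map, pullback.lift_fst, Category.comp_id, ← Functor.map_comp, Over.w]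
    exact IsPullback.of_hasPullback f₁ (σ.sys.map i.hom)
  haveI hBaff : ∀ {i j : Over kf.left} (h : i ⟶ j), IsAffineHom (B.map h) := fun {i j} h =>
    MorphismProperty.of_isPullback (P := @IsAffineHom) (htlmap h).flip
      (inferInstance : IsAffineHom (σ.sys.map h.left))
  let tB : B ⟶ (Functor.const _).obj S :=
    { app := fun j => pullback.snd f₁ (σ.sys.map j.hom) ≫ σ.toBase.app j.left
      naturality := fun i j h => by simp [B, AffLim.baseChange, σ.map_toBase] }
  obtain ⟨km, mk, hmk, hmk'⟩ := Scheme.exists_π_app_comp_eq_of_locallyOfFinitePresentation B tB g cB hcB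
    (m ≫ pullback.fst g f) (by
    ext j
    show cB.π.app j ≫ pullback.snd f₁ (σ.sys.map j.hom) ≫ σ.toBase.app j.left = (m ≫ pullback.fst g f) ≫ g
    rw [Category.assoc, pullback.condition, reassoc_of% hm]
    show FlatStage.vMap σ.sys σ.cone kf.left f₁ hpb₁ j ≫ _ = _
    rw [FlatStage.vMap_snd_assoc]
    simp [σ.π_toBase])
  let tl := pullback.snd f₁ (σ.sys.map km.hom)
  haveI : LocallyOfFinitePresentation tl := MorphismProperty.pullback_snd _ _ inferInstance
  haveI : QuasiCompact tl := MorphismProperty.pullback_snd _ _ inferInstance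
  haveI : QuasiSeparated tl := MorphismProperty.pullback_snd _ _ inferInstance
  haveI : Flat tl := MorphismProperty.pullback_snd _ _ inferInstance
  let bl := σ.toBase.app km.left
  let ml : B.obj km ⟶ pullback g bl := pullback.lift mk tl hmk'
  have hml : ml ≫ pullback.snd g bl = tl := pullback.lift_snd _ _ _
  let g₀ := pullback.snd g bl
  haveI : LocallyOfFinitePresentation g₀ := MorphismProperty.pullback_snd _ _ inferInstance
  haveI : QuasiCompact g₀ := MorphismProperty.pullback_snd _ _ inferInstance
  haveI : QuasiSeparated g₀ := MorphismProperty.pullback_snd _ _ inferInstance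
  haveI : CompactSpace ↥(pullback g bl) := QuasiCompact.compactSpace_of_compactSpace g₀
  haveI : QuasiSeparatedSpace ↥(pullback g bl) := quasiSeparatedSpace_of_quasiSeparated g₀
  haveI : LocallyOfFinitePresentation (ml ≫ g₀) := by rw [hml]; infer_instance
  haveI : LocallyOfFinitePresentation ml := FlatLocus.locallyOfFinitePresentation_of_comp ml g₀
  haveI : QuasiCompact ml := quasiCompact_of_compactSpace ml
  haveI : QuasiSeparated ml := QuasiSeparated.of_quasiSeparatedSpace ml
  have hπ : σ.cone.π.app km.left ≫ bl = f := σ.π_toBase km.left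
  have hsq := isPullback_bcMap g (σ.cone.π.app km.left) hπ
  let χ : T ⟶ B.obj km := FlatStage.vMap σ.sys σ.cone kf.left f₁ hpb₁ km
  have hχ : IsPullback χ t tl (σ.cone.π.app km.left) := by
    refine IsPullback.of_right (h₁₂ := pullback.fst f₁ (σ.sys.map km.hom)) ?_
      (FlatStage.vMap_snd σ.sys σ.cone kf.left f₁ hpb₁ km) (IsPullback.of_hasPullback _ _)
    rw [show χ ≫ pullback.fst _ _ = g₁ from FlatStage.vMap_fst σ.sys σ.cone kf.left f₁ hpb₁ km, σ.cone.w km.hom]
    exact hpb₁
  have hX : IsPullback χ m ml (bcMap g (σ.cone.π.app km.left) hπ) := by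
    refine IsPullback.of_bot (by rw [hm, hml]; exact hχ) ?_ hsq
    apply pullback.hom_ext
    · simp only [Category.assoc, ml, pullback.lift_fst]
      exact hmk
    · simp only [Category.assoc, ml, pullback.lift_snd]
      rw [reassoc_of% hm]
      exact hχ.w
  obtain ⟨n, hn⟩ := AffLim.exists_surjective_baseChange σ.sys σ.cone hc km.left ml g₀ hsq hX
  have hbn : σ.sys.map n.hom ≫ bl = σ.toBase.app n.left := σ.map_toBase n.hom
  let e := (isPullback_bcMap g (σ.sys.map n.hom) hbn).isoPullback
  let tn := pullback.snd (ml ≫ g₀) (σ.sys.map n.hom)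
  refine ⟨n.left, pullback (ml ≫ g₀) (σ.sys.map n.hom), tn,
    (AffLim.baseChangeMap σ.sys km.left ml g₀).app n ≫ e.inv, ?_, ?_, ?_, ?_, ?_, ?_⟩
  · rw [Category.assoc, IsPullback.isoPullback_inv_snd]
    simp [tn, AffLim.baseChangeMap, g₀]
  all_goals first
    | exact MorphismProperty.pullback_snd _ _ (hml.symm ▸ inferInstance)
    | (haveI := hn; infer_instance)

/-- At a valuation ring, a universally open morphism of finite presentation has a surjective flat refinement at a
finitely presented algebra. -/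
theorem exists_fp_surjRefinable {A : Type u} [CommRing A] {X : Scheme.{u}} (g : X ⟶ Spec (CommRingCat.of A))
    [LocallyOfFinitePresentation g] [QuasiCompact g] [QuasiSeparated g] [UniversallyOpen g]
    (V : Type u) [CommRing V] [IsDomain V] [ValuationRing V] [Algebra A V] :
    ∃ i : FPIdx A V, SurjRefinable g (Spec.map (CommRingCat.ofHom (algebraMap A i.ring))) := by
  let f : Spec (CommRingCat.of V) ⟶ Spec (CommRingCat.of A) := Spec.map (CommRingCat.ofHom (algebraMap A V))
  haveI : UniversallyOpen (pullback.snd g f) := MorphismProperty.pullback_snd _ _ ‹_›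
  haveI : QuasiCompact (pullback.snd g f) := MorphismProperty.pullback_snd _ _ ‹_›
  haveI : QuasiSeparated (pullback.snd g f) := MorphismProperty.pullback_snd _ _ ‹_›
  obtain ⟨T, k, hT, h1, h2, h3⟩ := exists_flat_surjective (V := CommRingCat.of V) (pullback.snd g f)
  obtain ⟨i, hi⟩ := exists_stage_surjRefinable (fpSys A V) (g := g) ⟨T, k ≫ pullback.snd g f, k, rfl, h2, h3,
    quasiCompact_of_compactSpace _, QuasiSeparated.of_quasiSeparatedSpace _, h1⟩
  exact ⟨i.unop, hi⟩

end Groth.Agent.NilFlatLib
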